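import Mathlib.GroupTheory.OrderOfElement
import Mathlib.Algebra.Group.Subgroup.Basic
import Mathlib.Tactic.Group

/-!
A subgroup `M` containing the centraliser of an involution `t` and controlling the fusion of `t` is the whole
group: the centralisers of the products of two commuting conjugates of `t` are pulled into `M` by a dihedral
argument.
-/

set_option autoImplicit false

namespace Cfsg.Agent.Omega8Rec.Closed

variable {G : Type*} [Group G]

/-- The conjugates of `t` under `M`. -/
def InR (M : Subgroup G) (t v : G) : Prop := ∃ m ∈ M, m * t * m⁻¹ = v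

/-- The centraliser of the set `E` lies in `M`. -/
def Good (M : Subgroup G) (E : List G) : Prop := ∀ g : G, (∀ e ∈ E, g * e = e * g) → g ∈ M

/-- The hypotheses on `M` and `t`. -/
structure Ctx (M : Subgroup G) (t : G) : Prop where
  cent : ∀ g : G, g * t = t * g → g ∈ M
  sq : t * t = 1
  fus : ∀ v ∈ M, IsConj t v → InR M t v

variable {M : Subgroup G} {t : G}

namespace Ctx

theorem t_mem (X : Ctx M t) : t ∈ M := X.cent t rfl

theorem R_t (_X : Ctx M t) : InR M t t := ⟨1, one_mem _, by group⟩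

theorem R_mem (X : Ctx M t) {v : G} (h : InR M t v) : v ∈ M := by
  obtain ⟨m, hm, rfl⟩ := h
  exact mul_mem (mul_mem hm X.t_mem) (inv_mem hm)

theorem R_sq (X : Ctx M t) {v : G} (h : InR M t v) : v * v = 1 := by
  obtain ⟨m, -, rfl⟩ := h
  calc m * t * m⁻¹ * (m * t * m⁻¹) = m * (t * t) * m⁻¹ := by group
    _ = 1 := by rw [X.sq]; group

theorem R_conj {v m : G} (hm : m ∈ M) (h : InR M t v) : InR M t (m * v * m⁻¹) := by
  obtain ⟨n, hn, rfl⟩ := h
  exact ⟨m * n, mul_mem hm hn, by group⟩

theorem R_isConj (_X : Ctx M t) {v : G} (h : InR M t v) : IsConj t v := by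
  obtain ⟨m, -, rfl⟩ := h
  exact isConj_iff.2 ⟨m, rfl⟩

/-- An element carrying one conjugate of `t` in `M` into `M` lies in `M`. -/
theorem mem_of_conj (X : Ctx M t) {a g : G} (ha : InR M t a) (h : g * a * g⁻¹ ∈ M) : g ∈ M := by
  obtain ⟨n, hn, rfl⟩ := ha
  obtain ⟨m, hm, e⟩ := X.fus _ h (isConj_iff.2 ⟨g * n, by group⟩)
  have h1 : m⁻¹ * g * n ∈ M := X.cent _ (by
    calc m⁻¹ * g * n * t = m⁻¹ * (g * (n * t * n⁻¹) * g⁻¹) * (g * n) := by group
      _ = m⁻¹ * (m * t * m⁻¹) * (g * n) := by rw [e]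
      _ = t * (m⁻¹ * g * n) := by group)
  have h2 := mul_mem (mul_mem hm h1) (inv_mem hn)
  have e2 : m * (m⁻¹ * g * n) * n⁻¹ = g := by group
  rwa [e2] at h2

theorem cent_R (X : Ctx M t) {a g : G} (ha : InR M t a) (h : g * a = a * g) : g ∈ M :=
  X.mem_of_conj ha (by rw [h, mul_inv_cancel_right]; exact X.R_mem ha)

end Ctx

/-- In a finite dihedral group: the generators are conjugate or there is a central involution. -/
theorem dihedral [Finite G] {a b : G} (ha : a * a = 1) (hb : b * b = 1) :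
    (∃ d : G, (∀ e : G, e * a = a * e → e * b = b * e → e * d = d * e) ∧ d * b * d⁻¹ = a) ∨
      ∃ w : G, w ≠ 1 ∧ w * w = 1 ∧ w * a = a * w ∧ w * b = b * w ∧ (IsConj a (w * a) ∨ IsConj b (w * a)) ∧
        ∀ e : G, e * a = a * e → e * b = b * e → e * w = w * e := by
  have hai : a⁻¹ = a := inv_eq_of_mul_eq_one_right ha
  have hbi : b⁻¹ = b := inv_eq_of_mul_eq_one_right hb
  have hcomm : ∀ (k : ℕ) (e : G), e * a = a * e → e * b = b * e → e * (a * b) ^ k = (a * b) ^ k * e :=
    fun k e h1 h2 => (Commute.mul_right (show Commute e a from h1) h2).pow_right k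
  have hinv : ∀ k : ℕ, b * ((a * b) ^ k)⁻¹ = (a * b) ^ k * b := by
    intro k
    induction k with
    | zero => simp
    | succ k ih =>
      calc b * ((a * b) ^ (k + 1))⁻¹ = b * ((a * b)⁻¹ * ((a * b) ^ k)⁻¹) := by rw [pow_succ, mul_inv_rev]
        _ = (b * b) * a * ((a * b) ^ k)⁻¹ := by rw [mul_inv_rev, hai, hbi]; group
        _ = a * ((a * b) ^ k)⁻¹ := by rw [hb, one_mul]
        _ = a * (b * (b * ((a * b) ^ k)⁻¹)) := by rw [← mul_assoc b b, hb, one_mul]
        _ = a * b * ((a * b) ^ k * b) := by rw [ih, mul_assoc]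
        _ = (a * b) ^ (k + 1) * b := by rw [← mul_assoc, ← pow_succ']
  rcases Nat.even_or_odd (orderOf (a * b)) with ⟨k, hk⟩ | ⟨k, hk⟩
  · right
    have hpos : 0 < orderOf (a * b) := orderOf_pos _
    have hk1 : (a * b) ^ k * (a * b) ^ k = 1 := by rw [← pow_add, ← hk, pow_orderOf_eq_one]
    have hki : ((a * b) ^ k)⁻¹ = (a * b) ^ k := inv_eq_of_mul_eq_one_right hk1
    have hwb : (a * b) ^ k * b = b * (a * b) ^ k := by
      have := hinv k
      rw [hki] at this
      exact this.symm
    have hwa : (a * b) ^ k * a = a * (a * b) ^ k := by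
      have h1 : Commute ((a * b) ^ k) (a * b) := (Commute.refl (a * b)).pow_left k
      have h2 : Commute ((a * b) ^ k) (a * b * b) := h1.mul_right hwb
      rw [mul_assoc, hb, mul_one] at h2
      exact h2
    refine ⟨(a * b) ^ k, ?_, hk1, hwa, hwb, ?_, hcomm k⟩
    · intro h
      have := Nat.le_of_dvd (by omega) (orderOf_dvd_of_pow_eq_one h)
      omega
    · have hia : ∀ j : ℕ, a * ((a * b) ^ j)⁻¹ = (a * b) ^ j * a := by
        intro j
        have h := hinv j
        have h0 : a = a * b * b := by rw [mul_assoc, hb, mul_one]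
        calc a * ((a * b) ^ j)⁻¹ = a * b * (b * ((a * b) ^ j)⁻¹) := by rw [← mul_assoc, ← h0]
          _ = a * b * (a * b) ^ j * b := by rw [h, mul_assoc, mul_assoc, mul_assoc]
          _ = (a * b) ^ j * (a * b * b) := by rw [← pow_succ', pow_succ, mul_assoc]
          _ = (a * b) ^ j * a := by rw [← h0]
      rcases Nat.even_or_odd k with ⟨j, rfl⟩ | ⟨j, rfl⟩
      · refine Or.inl (isConj_iff.2 ⟨(a * b) ^ j, ?_⟩)
        rw [mul_assoc, hia, ← mul_assoc, ← pow_add]
      · refine Or.inr (isConj_iff.2 ⟨(a * b) ^ j * a, ?_⟩)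
        calc (a * b) ^ j * a * b * ((a * b) ^ j * a)⁻¹
            = (a * b) ^ j * (a * b) * (a * ((a * b) ^ j)⁻¹) := by rw [mul_inv_rev, hai]; group
          _ = (a * b) ^ (2 * j + 1) * a := by rw [hia, ← pow_succ, ← mul_assoc, ← pow_add]; congr 2; omega
  · left
    refine ⟨(a * b) ^ (k + 1), hcomm _, ?_⟩
    rw [mul_assoc, hinv, ← mul_assoc, ← pow_add,
      show k + 1 + (k + 1) = orderOf (a * b) + 1 by omega, pow_succ, pow_orderOf_eq_one, one_mul, mul_assoc, hb,
      mul_one]

/-- **The dihedral step.** -/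
theorem Ctx.key [Finite G] (X : Ctx M t) (E : List G) (J : G → Prop)
    (hJ : ∀ h ∈ M, (∀ e ∈ E, h * e = e * h) → ∀ v, J v → J (h * v * h⁻¹))
    {a c : G} (ha : InR M t a) (hc : InR M t c) (haE : ∀ e ∈ E, a * e = e * a)
    (hcE : ∀ e ∈ E, c * e = e * c) (hJa : ¬ J a) (hJc : J c)
    (hnext : ∀ a', InR M t a' → (∀ e ∈ E, a' * e = e * a') → a * a' = a' * a → a' ≠ a →
      Good M ((a * a') :: E)) :
    Good M E := by
  intro g hg
  by_contra hgM
  set b := g * c * g⁻¹ with hbdef
  have hbM : b ∉ M := fun h => hgM (X.mem_of_conj hc h)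
  have hbE : ∀ e ∈ E, b * e = e * b := by
    intro e he
    have h1 : Commute g e := hg e he
    exact (h1.mul_left (hcE e he)).mul_left h1.inv_left
  have hbb : b * b = 1 := by
    calc b * b = g * (c * c) * g⁻¹ := by rw [hbdef]; group
      _ = 1 := by rw [X.R_sq hc]; group
  rcases dihedral (X.R_sq ha) hbb with ⟨d, hd, hda⟩ | ⟨w, hw1, hw2, hwa, hwb, hconj, hwc⟩
  · have hdE : ∀ e ∈ E, d * g * e = e * (d * g) := fun e he =>
      (show Commute d e from (hd e (haE e he).symm (hbE e he).symm).symm).mul_left (hg e he)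
    have hh : d * g * c * (d * g)⁻¹ = a := by rw [← hda, hbdef]; group
    have hdg : d * g ∈ M := X.mem_of_conj hc (by rw [hh]; exact X.R_mem ha)
    exact hJa (hh ▸ hJ _ hdg hdE c hJc)
  · have hwM : w ∈ M := X.cent_R ha hwa
    have hbt : IsConj t b := (X.R_isConj hc).trans (isConj_iff.2 ⟨g, rfl⟩)
    have hR : InR M t (w * a) := X.fus _ (mul_mem hwM (X.R_mem ha))
      (hconj.elim (fun h => (X.R_isConj ha).trans h) fun h => hbt.trans h)
    have hwE : ∀ e ∈ E, w * e = e * w := fun e he => (hwc e (haE e he).symm (hbE e he).symm).symm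
    have hw' : a * (w * a) = w := by rw [← mul_assoc, ← hwa, mul_assoc, X.R_sq ha, mul_one]
    refine hbM (hnext (w * a) hR (fun e he => (show Commute w e from hwE e he).mul_left (haE e he)) ?_ ?_ b ?_)
    · rw [hw', mul_assoc, X.R_sq ha, mul_one]
    · exact fun e => hw1 (mul_eq_right.1 e)
    · rw [hw']
      exact List.forall_mem_cons.2 ⟨hwb.symm, hbE⟩

/-- The product of two elements of `R` which commute. -/
def InP (M : Subgroup G) (t v : G) : Prop :=
  ∃ r r', InR M t r ∧ InR M t r' ∧ r * r' = r' * r ∧ r * r' = v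

theorem InP.conj {v m : G} (hm : m ∈ M) (h : InP M t v) : InP M t (m * v * m⁻¹) := by
  obtain ⟨r, r', hr, hr', hc, rfl⟩ := h
  refine ⟨m * r * m⁻¹, m * r' * m⁻¹, Ctx.R_conj hm hr, Ctx.R_conj hm hr', ?_, by group⟩
  calc m * r * m⁻¹ * (m * r' * m⁻¹) = m * (r * r') * m⁻¹ := by group
    _ = m * r' * m⁻¹ * (m * r * m⁻¹) := by rw [hc]; group

/-- `v` or its product with an element of `E` is in `R`. -/
def Near (M : Subgroup G) (t : G) (E : List G) (v : G) : Prop := InR M t v ∨ ∃ e ∈ E, InR M t (e * v)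

/-- A witness which pulls the centraliser of `E` into `M` once the products `q` satisfy `next`. -/
def Wit (M : Subgroup G) (t : G) (E : List G) (next : G → Prop) : Prop :=
  ∃ a c, InR M t a ∧ InR M t c ∧ (∀ e ∈ E, a * e = e * a) ∧ (∀ e ∈ E, c * e = e * c) ∧
    (∀ e ∈ E, ¬ InR M t (e * a)) ∧ (∃ e ∈ E, InR M t (e * c)) ∧
    ∀ a', InR M t a' → (∀ e ∈ E, a' * e = e * a') → a * a' = a' * a → a' ≠ a → next (a * a')

theorem Ctx.good_near (X : Ctx M t) {E : List G} {v : G} (h : Near M t E v) : Good M (v :: E) := by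
  intro g hg
  obtain ⟨hv, hE⟩ := List.forall_mem_cons.1 hg
  rcases h with h | ⟨e, he, h⟩
  · exact X.cent_R h hv
  · exact X.cent_R h ((show Commute g e from hE e he).mul_right hv)

theorem Ctx.good_of_wit [Finite G] (X : Ctx M t) {E : List G} {next : G → Prop} (h : Wit M t E next)
    (hn : ∀ v, next v → Good M (v :: E)) : Good M E := by
  obtain ⟨a, c, ha, hc, haE, hcE, hna, ⟨e, he, hec⟩, hq⟩ := h
  refine X.key E (fun v => ∃ e ∈ E, InR M t (e * v)) ?_ ha hc haE hcE (fun ⟨e, he, h⟩ => hna e he h)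
    ⟨e, he, hec⟩ fun a' h1 h2 h3 h4 => hn _ (hq a' h1 h2 h3 h4)
  intro h hh hhE v ⟨e, he, hev⟩
  refine ⟨e, he, ?_⟩
  have h1 : Commute h e := hhE e he
  have := Ctx.R_conj hh hev
  rwa [show h * (e * v) * h⁻¹ = e * (h * v * h⁻¹) by rw [← mul_assoc, h1.eq]; group] at this

/-- The two levels of witnesses for a product `w`. -/
def Level (M : Subgroup G) (t : G) (w : G) : Prop :=
  Wit M t [w] fun p => Near M t [w] p ∨ Wit M t [w, p, w * p] (Near M t [w, p, w * p])

theorem Ctx.good_level [Finite G] (X : Ctx M t) {w : G} (h : Level M t w) : Good M [w] := by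
  refine X.good_of_wit h fun p hp => ?_
  rcases hp with hp | hp
  · exact X.good_near hp
  · intro g hg
    refine X.good_of_wit hp (fun v hv => X.good_near hv) g ?_
    obtain ⟨h1, h2⟩ := List.forall_mem_cons.1 hg
    have h3 := h2 w (List.mem_singleton_self w)
    intro e he
    simp only [List.mem_cons, List.not_mem_nil, or_false] at he
    rcases he with rfl | rfl | rfl
    · exact h3
    · exact h1
    · exact (show Commute g w from h3).mul_right h1

/-- **`M` is everything.** -/
theorem Ctx.eq_top [Finite G] (X : Ctx M t) {z : G} (hzM : z ∈ M) (hzz : z * z = 1) (hzR : ¬ InR M t z)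
    (hzP : InP M t z) (hgen : t ∈ Subgroup.closure {v | ∃ m ∈ M, m * z * m⁻¹ = v})
    (hlev : ∀ a', InR M t a' → t * a' = a' * t → a' ≠ t → InR M t (t * a') ∨ Level M t (t * a'))
    (hfar : ∀ m ∈ M, m * z * m⁻¹ * t = t * (m * z * m⁻¹) → t * (m * z * m⁻¹) ≠ 1 →
      InP M t (t * (m * z * m⁻¹)) ∨ ∃ a, InR M t a ∧ a * (t * (m * z * m⁻¹)) = t * (m * z * m⁻¹) * a ∧
        ¬ InP M t (t * (m * z * m⁻¹) * a)) :
    M = ⊤ := by
  -- products of two commuting conjugates
  have hP : ∀ v, InP M t v → v ≠ 1 → Good M [v] := by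
    rintro v ⟨r, r', ⟨m, hm, rfl⟩, hr', hc, rfl⟩ hne g hg
    have h1 := hg _ (List.mem_singleton_self _)
    set a' := m⁻¹ * r' * m with ha'
    have hR' : InR M t a' := by simpa using Ctx.R_conj (inv_mem hm) hr'
    have e : m * t * m⁻¹ * r' = m * (t * a') * m⁻¹ := by rw [ha']; group
    have hc' : t * a' = a' * t := by
      calc t * a' = m⁻¹ * (m * t * m⁻¹ * r') * m := by rw [ha']; group
        _ = m⁻¹ * (r' * (m * t * m⁻¹)) * m := by rw [hc]
        _ = a' * t := by rw [ha']; group
    have hne' : a' ≠ t := fun h => hne (by rw [e, h, X.sq]; group)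
    have hg' : m⁻¹ * g * m ∈ M := by
      have hcomm : (m⁻¹ * g * m) * (t * a') = t * a' * (m⁻¹ * g * m) := by
        rw [e] at h1
        calc (m⁻¹ * g * m) * (t * a') = m⁻¹ * (g * (m * (t * a') * m⁻¹)) * m := by group
          _ = m⁻¹ * (m * (t * a') * m⁻¹ * g) * m := by rw [h1]
          _ = _ := by group
      rcases hlev a' hR' hc' hne' with h | h
      · exact X.cent_R h hcomm
      · exact X.good_level h _ (by simpa using hcomm)
    have h2 := mul_mem (mul_mem hm hg') (inv_mem hm)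
    have e2 : m * (m⁻¹ * g * m) * m⁻¹ = g := by group
    rwa [e2] at h2
  have hzne : z ≠ 1 → Good M [z] := hP z hzP
  have key : ∀ g : G, g * z * g⁻¹ ∈ M := by
    intro g
    rcases eq_or_ne z 1 with hz1 | hz1
    · rw [hz1, mul_one, mul_inv_cancel]; exact one_mem _
    set b := g * z * g⁻¹ with hbdef
    by_contra hb
    have hbb : b * b = 1 := by
      calc b * b = g * (z * z) * g⁻¹ := by rw [hbdef]; group
        _ = 1 := by rw [hzz]; group
    rcases dihedral X.sq hbb with ⟨d, -, hd⟩ | ⟨u, hu1, hu2, hut, hub, hconj, -⟩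
    · exact hzR (X.fus z hzM (isConj_iff.2 ⟨(d * g)⁻¹, by rw [← hd, hbdef]; group⟩))
    · have huM : u ∈ M := X.cent u hut
      have htu : t * (u * t) = u := by rw [← mul_assoc, ← hut, mul_assoc, X.sq, mul_one]
      rcases hconj with h | h
      · have hR := X.fus _ (mul_mem huM X.t_mem) h
        refine hb (hP u ⟨t, u * t, X.R_t, hR, ?_, htu⟩ hu1 b (by simpa using hub.symm))
        rw [htu, mul_assoc, X.sq, mul_one]
      · obtain ⟨k, hk⟩ := isConj_iff.1 ((isConj_iff.2 ⟨g, rfl⟩ : IsConj z b).trans h)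
        have hte : u * t * t = t * (u * t) := by rw [htu, mul_assoc, X.sq, mul_one]
        have hkM : k⁻¹ ∈ M := by
          refine X.mem_of_conj X.R_t (hzne hz1 _ fun e he => ?_)
          rw [List.mem_singleton.1 he]
          rw [← hk] at hte
          calc k⁻¹ * t * k⁻¹⁻¹ * z = k⁻¹ * (t * (k * z * k⁻¹)) * k := by group
            _ = k⁻¹ * (k * z * k⁻¹ * t) * k := by rw [← hte]
            _ = _ := by group
        have hkM' : k ∈ M := by simpa using inv_mem hkM
        have hgu : Good M [u] := ?_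
        · exact hb (hgu b (by simpa using hub.symm))
        have hz' : t * (k * z * k⁻¹) = u := by rw [hk, htu]
        rcases hfar k hkM' (by rw [hk, hte]) (by rw [hz']; exact hu1) with h' | ⟨a, ha, hau, hna⟩
        · rw [hz'] at h'; exact hP u h' hu1
        · rw [hz'] at hau hna
          refine X.key [u] (fun v => InP M t (u * v)) ?_ ha X.R_t (by simpa using hau) (by simpa using hut.symm) hna ?_ ?_
          · intro h hh hhu v hv
            have h1 : Commute h u := hhu u (List.mem_singleton_self u)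
            have h2 := InP.conj hh hv
            rwa [show h * (u * v) * h⁻¹ = u * (h * v * h⁻¹) by rw [← mul_assoc, h1.eq]; group] at h2
          · rw [show u * t = k * z * k⁻¹ from hk.symm]
            exact InP.conj hkM' hzP
          · intro a' ha' _ hc hne g' hg'
            refine hP (a * a') ⟨a, a', ha, ha', hc, rfl⟩ (fun e => hne ?_) g' ?_
            · calc a' = a * a * a' := by rw [X.R_sq ha, one_mul]
                _ = a := by rw [mul_assoc, e, mul_one]
            · intro e he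
              exact hg' e (by simp [List.mem_singleton.1 he])
  refine eq_top_iff.2 fun g _ => X.mem_of_conj (a := t) X.R_t ?_
  have : (Subgroup.closure {v | ∃ m ∈ M, m * z * m⁻¹ = v}) ≤ M.comap (MulAut.conj g).toMonoidHom := by
    rw [Subgroup.closure_le]
    rintro _ ⟨m, -, rfl⟩
    show g * (m * z * m⁻¹) * g⁻¹ ∈ M
    have := key (g * m)
    rwa [show g * m * z * (g * m)⁻¹ = g * (m * z * m⁻¹) * g⁻¹ by group] at this
  exact this hgen

end Cfsg.Agent.Omega8Rec.Closed
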