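import Cfsg.Agent.Lib.Omega8Rec.Closed.Model

/-!
**The closing argument**: a subgroup isomorphic to the orthogonal group of plus type in dimension eight over two
elements which contains the centraliser of a long root involution and controls its fusion is the whole group.
-/

set_option autoImplicit false

namespace Cfsg.Agent.Omega8Rec.Closed

open Cfsg

variable {G : Type*} [Group G]

/-- **`M` is everything.** -/
theorem eq_top_of_fusion [Finite G] {M : Subgroup G} {t : G} (hcent : ∀ g : G, g * t = t * g → g ∈ M)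
    (hsq : t * t = 1) (hfus : ∀ v ∈ M, IsConj t v → ∃ m ∈ M, m * t * m⁻¹ = v)
    (φ : ↥M ≃* Gam) (e : ↥M) (he : code (φ e) = e0Key) (hte : ∃ m ∈ M, m * t * m⁻¹ = (e : G)) : M = ⊤ := by
  classical
  have X : Ctx M t := ⟨hcent, hsq, hfus⟩
  obtain ⟨t0, z0, F⟩ := exists_facts
  -- adjust the isomorphism
  obtain ⟨me, hme, hme'⟩ := hte
  obtain ⟨n, -, hn⟩ := F.e_R (φ e) he
  let me' : ↥M := ⟨me, hme⟩
  let ι : Gam →* G := M.subtype.comp
    ((MulAut.conj me'⁻¹).toMonoidHom.comp (φ.symm.toMonoidHom.comp (MulAut.conj n).toMonoidHom))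
  have hval : ∀ x, ι x = me⁻¹ * ((φ.symm (n * x * n⁻¹) : ↥M) : G) * me := by
    intro x
    show ((me'⁻¹ * φ.symm (n * x * n⁻¹) * me'⁻¹⁻¹ : ↥M) : G) = _
    rw [inv_inv]
    rfl
  have hinj : Function.Injective ι := by
    intro a b h
    rw [hval, hval] at h
    have := φ.symm.injective (Subtype.ext (mul_left_cancel (mul_right_cancel h)))
    exact mul_left_cancel (mul_right_cancel this)
  have hmem : ∀ x, ι x ∈ M := fun x => by
    rw [hval]; exact mul_mem (mul_mem (inv_mem hme) (SetLike.coe_mem _)) hme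
  have honto : ∀ g ∈ M, ∃ x, ι x = g := by
    intro g hg
    refine ⟨n⁻¹ * φ ⟨me * g * me⁻¹, mul_mem (mul_mem hme hg) (inv_mem hme)⟩ * n, ?_⟩
    rw [hval, show ∀ y : Gam, n * (n⁻¹ * y * n) * n⁻¹ = y from fun y => by group, MulEquiv.symm_apply_apply]
    show me⁻¹ * (me * g * me⁻¹) * me = g
    group
  have ht : ι t0 = t := by
    rw [hval, hn, MulEquiv.symm_apply_apply, ← hme']
    group
  have hR : ∀ v, InR M t (ι v) ↔ InR ⊤ t0 v := by
    intro v
    constructor
    · rintro ⟨m, hm, h⟩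
      obtain ⟨x, rfl⟩ := honto m hm
      exact ⟨x, trivial, hinj (by rw [map_mul, map_mul, map_inv, ht, h])⟩
    · rintro ⟨x, -, rfl⟩
      exact ⟨ι x, hmem x, by rw [map_mul, map_mul, map_inv, ht]⟩
  have hP : ∀ v, InP M t (ι v) ↔ InP ⊤ t0 v := by
    intro v
    constructor
    · rintro ⟨r, r', hr, hr', hc, hv⟩
      obtain ⟨x, rfl⟩ := honto r (X.R_mem hr)
      obtain ⟨y, rfl⟩ := honto r' (X.R_mem hr')
      exact ⟨x, y, (hR x).1 hr, (hR y).1 hr', hinj (by rw [map_mul, map_mul, hc]),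
        hinj (by rw [map_mul, hv])⟩
    · rintro ⟨r, r', hr, hr', hc, rfl⟩
      exact ⟨ι r, ι r', (hR r).2 hr, (hR r').2 hr', by rw [← map_mul, ← map_mul, hc], (map_mul _ _ _).symm⟩
  have hnear : ∀ E v, Near ⊤ t0 E v → Near M t (E.map ι) (ι v) := by
    intro E v h
    refine h.imp (hR v).2 ?_
    rintro ⟨e, he, h⟩
    exact ⟨ι e, List.mem_map_of_mem he, by rw [← map_mul]; exact (hR _).2 h⟩
  have hwit : ∀ (E : List Gam) (n : Gam → Prop) (n' : G → Prop), (∀ v, n v → n' (ι v)) → Wit ⊤ t0 E n →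
      Wit M t (E.map ι) n' := by
    rintro E n n' hn ⟨a, c, ha, hc, haE, hcE, hna, ⟨e, he, hec⟩, hq⟩
    refine ⟨ι a, ι c, (hR a).2 ha, (hR c).2 hc, ?_, ?_, ?_, ⟨ι e, List.mem_map_of_mem he, ?_⟩, ?_⟩
    · intro x hx
      obtain ⟨x, hx', rfl⟩ := List.mem_map.1 hx
      rw [← map_mul, ← map_mul, haE x hx']
    · intro x hx
      obtain ⟨x, hx', rfl⟩ := List.mem_map.1 hx
      rw [← map_mul, ← map_mul, hcE x hx']
    · intro x hx
      obtain ⟨x, hx', rfl⟩ := List.mem_map.1 hx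
      rw [← map_mul, hR]
      exact hna x hx'
    · rw [← map_mul, hR]; exact hec
    · intro a' ha' h1 h2 h3
      obtain ⟨b, rfl⟩ := honto a' (X.R_mem ha')
      rw [← map_mul]
      refine hn _ (hq b ((hR b).1 ha') (fun x hx => hinj ?_) (hinj ?_) fun e => h3 (by rw [e]))
      · rw [map_mul, map_mul]; exact h1 _ (List.mem_map_of_mem hx)
      · rw [map_mul, map_mul]; exact h2
  have hzM : ι z0 ∈ M := hmem z0
  refine X.eq_top hzM (by rw [← map_mul, F.sq, map_one]) (fun h => F.not_R ((hR _).1 h)) ((hP _).2 F.prod) ?_ ?_ ?_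
  · have hle : Subgroup.closure {v | ∃ m ∈ (⊤ : Subgroup Gam), m * z0 * m⁻¹ = v} ≤
        (Subgroup.closure {v | ∃ m ∈ M, m * ι z0 * m⁻¹ = v}).comap ι := by
      rw [Subgroup.closure_le]
      rintro _ ⟨m, -, rfl⟩
      exact Subgroup.subset_closure ⟨ι m, hmem m, by rw [map_mul, map_mul, map_inv]⟩
    have := hle F.gen
    rwa [Subgroup.mem_comap, ht] at this
  · intro a' ha' hc hne
    obtain ⟨b, rfl⟩ := honto a' (X.R_mem ha')
    rw [← ht, ← map_mul, ht]
    refine (F.lev b ((hR b).1 ha') (hinj (by rw [map_mul, map_mul, ht, hc]))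
      fun e => hne (by rw [e, ht])).imp (hR _).2 fun h => ?_
    show Wit M t ([t0 * b].map ι) fun p =>
      Near M t ([t0 * b].map ι) p ∨ Wit M t [ι (t0 * b), p, ι (t0 * b) * p] (Near M t [ι (t0 * b), p, ι (t0 * b) * p])
    refine hwit [t0 * b] _ _ (fun p hp => hp.imp (hnear [t0 * b] p) fun h => ?_) h
    have := hwit [t0 * b, p, t0 * b * p] _ (Near M t ([t0 * b, p, t0 * b * p].map ι))
      (fun v hv => hnear _ v hv) h
    simpa only [List.map_cons, List.map_nil, map_mul] using this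
  · intro m hm hc hne
    obtain ⟨x, rfl⟩ := honto m hm
    have e1 : ι x * ι z0 * (ι x)⁻¹ = ι (x * z0 * x⁻¹) := by rw [map_mul, map_mul, map_inv]
    have e2 : t * ι (x * z0 * x⁻¹) = ι (t0 * (x * z0 * x⁻¹)) := by rw [map_mul ι t0, ht]
    rw [e1] at hc hne ⊢
    rw [e2] at hne ⊢
    refine (F.far x trivial (hinj (by rw [map_mul, map_mul ι t0, ht, hc]))
      fun e => hne (by rw [e, map_one])).imp (hP _).2 ?_
    rintro ⟨a, ha, hac, hna⟩
    exact ⟨ι a, (hR a).2 ha, by rw [← map_mul, ← map_mul, hac], fun h => hna ((hP _).1 (by rwa [map_mul ι _ a]))⟩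

end Cfsg.Agent.Omega8Rec.Closed
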