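import Cfsg.Agent.Lib.Omega8Rec.Closed.Checks

/-!
Data for the fusion of the involution: the keys of the eight generators, of twelve derived elements and of the
conjugates of the reflections, and for each coset involution a word moving it into the core.
-/

set_option autoImplicit false
set_option maxRecDepth 100000

namespace Cfsg.Agent.Omega8Rec.Closed

/-- The keys of the generators. -/
def fGen : List ℕ :=
  [9241492057334612481, 9250428887845045761, 9241421826029257473, 9277450485676376577, 9531903864555700737, 9241439280776348163, 13853107707018215937, 9241421689672434177]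

/-- The twelve derived elements as words. -/
def fWords : List (List ℕ) :=
  [[2], [3], [4], [0, 1, 0, 3, 0, 1, 0, 4, 0, 1, 0, 3, 0, 1, 0, 4, 2, 0, 1, 0, 3, 0, 1, 0, 4, 0, 1, 0, 3, 0, 1, 0, 4, 2, 0, 0, 1, 0, 3, 0, 1, 0, 4, 0, 1, 0, 3, 0, 1, 0, 4, 2, 0, 1, 0, 3, 0, 1, 0, 4, 0, 1, 0, 3, 0, 1, 0, 4, 2, 0], [0, 1, 0, 3, 0, 1, 0, 4, 0, 1, 0, 3, 0, 1, 0, 4, 2, 0, 1, 0, 3, 0, 1, 0, 4, 0, 1, 0, 3, 0, 1, 0, 4, 2], [0, 1, 0, 3, 0, 1, 0, 4, 0, 1, 0, 3, 0, 1, 0, 4], [0, 1, 0, 4, 0, 1, 0, 2, 0, 1, 0, 4, 0, 1, 0, 2], [0, 1, 0, 2, 0, 1, 0, 3, 0, 1, 0, 2, 0, 1, 0, 3], [0, 1, 0, 4, 0, 1, 0], [0, 1, 0, 3, 0, 1, 0], [0, 1, 0, 2, 0, 1, 0], [0]]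

/-- Their keys. -/
def fBase : List ℕ :=
  [9241421826029257473, 9277450485676376577, 9531903864555700737, 9241422796691866113, 9241703180746883585, 9241989036590236161, 9313479316987970049, 9241422238362894849, 9385545672759181825, 9241562426112213505, 9241421963468276225, 9241492057334612481]

/-- The conjugates of the three reflections. -/
def fAc : List (List ℕ) :=
  [[9241421826029257473, 9241439280776348163, 9241404165123735810], [9277450485676376577, 13853107707018215937, 4647750068605551105], [9531903864555700737, 9241421689672434177, 290517430139093505]]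

/-- Coset involutions with words and targets. -/
def fData : List (ℕ × List ℕ × ℕ) :=
  [(3, [0, 1], 1536),
   (5, [0, 1], 1280),
   (6, [0, 1], 768),
   (7, [0, 1], 1792),
   (9, [0, 1], 1048),
   (10, [0, 1], 536),
   (11, [0, 1], 1560),
   (12, [0, 1], 280),
   (13, [0, 1], 1304),
   (14, [0, 1], 792),
   (15, [0, 1], 1816),
   (19, [0, 1], 1544),
   (21, [0, 1], 1288),
   (22, [0, 1], 776),
   (23, [0, 1], 1800),
   (25, [0, 1], 1040),
   (26, [0, 1], 528),
   (27, [0, 1], 1552),
   (28, [0, 1], 272),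
   (29, [0, 1], 1296),
   (30, [0, 1], 784),
   (31, [0, 1], 1808),
   (38, [0, 1], 800),
   (42, [0, 1], 568),
   (44, [0, 1], 312),
   (46, [0, 1], 824),
   (54, [0, 1], 808),
   (58, [0, 1], 560),
   (60, [0, 1], 304),
   (62, [0, 1], 816),
   (69, [0, 1], 1344),
   (73, [0, 1], 1112),
   (76, [0, 1], 344),
   (77, [0, 1], 1368),
   (85, [0, 1], 1352),
   (89, [0, 1], 1104),
   (92, [0, 1], 336),
   (93, [0, 1], 1360),
   (99, [0, 1], 1632),
   (100, [0, 1], 352),
   (103, [0, 1], 1888),
   (107, [0, 1], 1656),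
   (111, [0, 1], 1912),
   (115, [0, 1], 1640),
   (116, [6, 1], 304),
   (119, [0, 1], 1896),
   (123, [0, 1], 1648),
   (127, [0, 1], 1904),
   (131, [0, 1], 1664),
   (137, [0, 1], 1176),
   (138, [0, 1], 664),
   (139, [0, 1], 1688),
   (147, [0, 1], 1672),
   (153, [0, 1], 1168),
   (154, [0, 1], 656),
   (155, [0, 1], 1680),
   (162, [0, 1], 672),
   (165, [0, 1], 1440),
   (167, [0, 1], 1952),
   (173, [0, 1], 1464),
   (175, [0, 1], 1976),
   (178, [7, 1], 560),
   (181, [0, 1], 1448),
   (183, [0, 1], 1960),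
   (189, [0, 1], 1456),
   (191, [0, 1], 1968),
   (193, [0, 1], 1216),
   (198, [0, 1], 960),
   (199, [0, 1], 1984),
   (206, [0, 1], 984),
   (207, [0, 1], 2008),
   (209, [7, 1], 1104),
   (214, [0, 1], 968),
   (215, [0, 1], 1992),
   (222, [0, 1], 976),
   (223, [0, 1], 2000),
   (227, [7, 1], 1656),
   (229, [6, 1], 1464),
   (230, [5, 1], 984),
   (235, [7, 1], 1632),
   (237, [6, 1], 1440),
   (238, [5, 1], 960),
   (243, [0, 1], 1768),
   (245, [0, 1], 1512),
   (246, [0, 1], 1000),
   (251, [0, 1], 1776),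
   (253, [0, 1], 1520),
   (254, [0, 1], 1008),
   (268, [1], 280),
   (276, [1], 272),
   (300, [1], 312),
   (308, [1], 304),
   (332, [1], 344),
   (340, [1], 336),
   (356, [1], 352),
   (380, [1], 360),
   (522, [1], 536),
   (530, [1], 528),
   (554, [1], 568),
   (562, [1], 560),
   (650, [1], 664),
   (658, [1], 656),
   (674, [1], 672),
   (698, [1], 680),
   (774, [1], 800),
   (782, [1], 824),
   (790, [1], 816),
   (798, [1], 808),
   (806, [1], 768),
   (814, [1], 792),
   (822, [1], 784),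
   (830, [1], 776),
   (966, [1], 992),
   (974, [1], 1016),
   (982, [1], 1008),
   (990, [1], 1000),
   (998, [1], 960),
   (1006, [1], 984),
   (1014, [1], 976),
   (1022, [1], 968),
   (1033, [1], 1048),
   (1041, [1], 1040),
   (1097, [1], 1112),
   (1105, [1], 1104),
   (1161, [1], 1176),
   (1169, [1], 1168),
   (1217, [1], 1216),
   (1241, [1], 1224),
   (1285, [1], 1344),
   (1293, [1], 1368),
   (1301, [1], 1360),
   (1309, [1], 1352),
   (1349, [1], 1280),
   (1357, [1], 1304),
   (1365, [1], 1296),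
   (1373, [1], 1288),
   (1445, [1], 1504),
   (1453, [1], 1528),
   (1461, [1], 1520),
   (1469, [1], 1512),
   (1509, [1], 1440),
   (1517, [1], 1464),
   (1525, [1], 1456),
   (1533, [1], 1448),
   (1539, [1], 1664),
   (1547, [1], 1688),
   (1555, [1], 1680),
   (1563, [1], 1672),
   (1635, [1], 1760),
   (1643, [1], 1784),
   (1651, [1], 1776),
   (1659, [1], 1768),
   (1667, [1], 1536),
   (1675, [1], 1560),
   (1683, [1], 1552),
   (1691, [1], 1544),
   (1763, [1], 1632),
   (1771, [1], 1656),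
   (1779, [1], 1648),
   (1787, [1], 1640),
   (1831, [1], 1992),
   (1839, [1], 2000),
   (1847, [1], 2008),
   (1855, [1], 1984),
   (1863, [1], 1960),
   (1871, [1], 1968),
   (1879, [1], 1976),
   (1887, [1], 1952),
   (1927, [1], 1896),
   (1935, [1], 1904),
   (1943, [1], 1912),
   (1951, [1], 1888),
   (2023, [1], 1800),
   (2031, [1], 1808),
   (2039, [1], 1816),
   (2047, [1], 1792)]

/-- The code of a word. -/
def wcode (w : List ℕ) : ℕ := w.foldr (fun i r => mul8 (fGen.getD i 0) r) one8

/-- A product selected by binary digits. -/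
def cSel : List ℕ → ℕ → ℕ
  | [], _ => one8
  | a :: L, n => if n % 2 == 1 then mul8 a (cSel L (n / 2)) else cSel L (n / 2)

/-- Conjugation along a word. -/
def cConj (w : List ℕ) (k : ℕ) : ℕ := w.foldl (fun y i => mul8 (mul8 (fGen.getD i 0) y) (fGen.getD i 0)) k

/-- Every conjugate of some reflection moves `q` modulo the involution. -/
def moved8 (q : ℕ) : Bool :=
  fAc.any fun l => l.all fun c => !(mul8 (mul8 c q) c == q) && !(mul8 (mul8 c q) c == mul8 q (fBase.getD 3 0))

/-- The check for one candidate. -/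
def candOK (n : ℕ) : Bool :=
  let k := cSel fBase n
  !(mul8 k k == one8) || isR k ||
    if n % 8 == 0 then k == one8 || moved8 k
    else fData.any fun d => d.1 == n && d.2.2 % 8 == 0 && Nat.blt d.2.2 4096 && d.2.1.all (fun i => Nat.blt i 8) &&
      cConj d.2.1 k == cSel fBase d.2.2

theorem fBase_eq : fWords.map wcode = fBase := by decide +kernel

theorem fGen_len : fGen.length = 8 := by decide +kernel

theorem fBase_t : isR (fBase.getD 3 0) = true := by decide +kernel

theorem cand_all : (List.range 4096).all candOK = true := by decide +kernel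

end Cfsg.Agent.Omega8Rec.Closed
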