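import Cfsg.Agent.Lib.Omega8Rec.Closed.Vec
import Cfsg.Agent.Lib.Omega8Rec.Closed.CertData

/-!
The checks of the certificate for the closing argument.
-/

set_option autoImplicit false
set_option maxRecDepth 100000

namespace Cfsg.Agent.Omega8Rec.Closed

/-- The entry at a key. -/
def OTree.find : OTree → ℕ → Option (ℕ × ℕ × ℕ)
  | .nil, _ => none
  | .node l k r p g rt, x => if Nat.blt x k then l.find x else if Nat.blt k x then rt.find x else some (r, p, g)

/-- The entries. -/
def OTree.entries : OTree → List (ℕ × ℕ × ℕ × ℕ)
  | .nil => []
  | .node l k r p g rt => l.entries ++ (k, r, p, g) :: rt.entries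

theorem OTree.mem_entries : ∀ {T : OTree} {x : ℕ} {v : ℕ × ℕ × ℕ}, T.find x = some v → (x, v) ∈ T.entries
  | .nil, _, _, h => nomatch h
  | .node l k r p g rt, x, v, h => by
    rw [OTree.find] at h
    rw [OTree.entries, List.mem_append, List.mem_cons]
    split_ifs at h with h1 h2
    · exact Or.inl (mem_entries h)
    · exact Or.inr (Or.inr (mem_entries h))
    · refine Or.inr (Or.inl ?_)
      rw [Nat.blt_eq, not_lt] at h1 h2
      rw [show x = k by omega, ← Option.some.inj h]

/-- Membership. -/
def OTree.has (T : OTree) (x : ℕ) : Bool := (T.find x).isSome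

/-- The keys. -/
def OTree.keys (T : OTree) : List ℕ := T.entries.map Prod.fst

theorem OTree.mem_keys {T : OTree} {x : ℕ} (h : T.has x = true) : x ∈ T.keys := by
  obtain ⟨v, hv⟩ := Option.isSome_iff_exists.1 h
  exact List.mem_map.2 ⟨_, mem_entries hv, rfl⟩

/-- Each entry is a root or is moved from an entry of smaller rank. -/
def orbOK (T : OTree) (root gok : ℕ → Bool) : Bool :=
  T.entries.all fun e =>
    if e.2.1 == 0 then root e.1
    else
      match T.find e.2.2.1 with
      | some (r', _) => Nat.blt r' e.2.1 && gok e.2.2.2 && (e.1 == mul8 (mul8 e.2.2.2 e.2.2.1) e.2.2.2)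
      | none => false

theorem orb_ind {T : OTree} {root gok : ℕ → Bool} (h : orbOK T root gok = true) {P : ℕ → Prop}
    (h0 : ∀ k, root k = true → P k) (hs : ∀ p g, gok g = true → P p → P (mul8 (mul8 g p) g))
    {x : ℕ} (hx : T.has x = true) : P x := by
  have key : ∀ r x p g, T.find x = some (r, p, g) → P x := by
    intro r
    induction r using Nat.strong_induction_on with
    | h r ih =>
      intro x p g hf
      have e := List.all_eq_true.1 h _ (OTree.mem_entries hf)
      simp only at e
      split_ifs at e with hr
      · exact h0 _ e
      · cases hp : T.find p with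
        | none => rw [hp] at e; exact absurd e Bool.false_ne_true
        | some v =>
          obtain ⟨r', p', g'⟩ := v
          rw [hp] at e
          simp only [Bool.and_eq_true, Nat.blt_eq, beq_iff_eq] at e
          rw [e.2]
          exact hs p g e.1.2 (ih r' e.1.1 p p' g' hp)
  obtain ⟨⟨r, p, g⟩, hv⟩ := Option.isSome_iff_exists.1 hx
  exact key r x p g hv

/-- A code in the orbit of the involution. -/
def isR (x : ℕ) : Bool := rTree.has x

/-- The two codes commute. -/
def comm8 (a b : ℕ) : Bool := mul8 a b == mul8 b a

/-- The partners of the involution. -/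
def ctList : List ℕ := rTree.keys.filter fun r => comm8 r t0Key

/-- The conjugates of the involution which commute with `w`. -/
def centList (w : ℕ) : List ℕ := rTree.keys.filter fun r => comm8 r w

/-- `v` or its product with an element of the list is in the orbit. -/
def near8 (E : List ℕ) (v : ℕ) : Bool := isR v || E.any fun e => isR (mul8 e v)

/-- A witness. -/
def witOK (L E : List ℕ) (a c : ℕ) (next : ℕ → Bool) : Bool :=
  isR a && isR c && E.all (fun e => comm8 a e && comm8 c e && !isR (mul8 e a)) && E.any (fun e => isR (mul8 e c)) &&
    L.all fun r => r == a || !comm8 a r || !E.all (comm8 r) || next (mul8 a r)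

/-- The two levels for a representative. -/
def levOK (d : ℕ × ℕ × ℕ × List (ℕ × ℕ × ℕ)) : Bool :=
  let w := mul8 t0Key d.1
  let L := centList w
  witOK L [w] d.2.1 d.2.2.1 fun p => near8 [w] p || d.2.2.2.any fun s =>
    s.1 == p && witOK L [w, p, mul8 w p] s.2.1 s.2.2 (near8 [w, p, mul8 w p])

/-- One entry of the separating data. -/
def farOne (r : ℕ) (s : ℕ × Bool × ℕ) : Bool :=
  s.1 == r && isR s.2.2 && comm8 s.2.2 (mul8 r z0Key) &&
    if s.2.1 then isR (mul8 s.2.2 (mul8 r z0Key)) else !inv8 (mul8 (mul8 r z0Key) s.2.2)

/-- All separating data. -/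
def farOK : Bool :=
  (centList z0Key).all fun r => mul8 r z0Key == one8 || farData.any (farOne r)

/-- The conjugate of the second involution. -/
def z1Key : ℕ := genWord.foldr (fun g y => mul8 (mul8 g y) g) z0Key

theorem gen_sq : (genKeys.all fun g => mul8 g g == one8) = true := by decide +kernel

theorem t0_gen : genKeys.getD 0 0 = t0Key := by decide +kernel

theorem r_orbit : orbOK rTree (fun k => k == t0Key) (fun g => genKeys.contains g) = true := by decide +kernel

theorem r_closed : (rTree.keys.all fun k => genKeys.all fun g => isR (mul8 (mul8 g k) g)) = true := by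
  decide +kernel

theorem t0_R : isR t0Key = true := by decide +kernel

theorem e0_R : isR e0Key = true := by decide +kernel

theorem ct_orbit : orbOK ctTree (fun k => levData.any fun d => d.1 == k) (fun g => isR g && comm8 g t0Key) = true := by
  decide +kernel

theorem ct_complete : (ctList.all fun r => r == t0Key || isR (mul8 t0Key r) || ctTree.has r) = true := by
  decide +kernel

theorem lev_all : levData.all levOK = true := by decide +kernel

theorem lev_inv : (levData.all fun d => inv8 (mul8 t0Key d.1)) = true := by decide +kernel

theorem inv_small : (inv8 one8 && inv8 t0Key) = true := by decide +kernel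

theorem far_all : farOK = true := by decide +kernel

theorem z0_ok : (mul8 t0Key z0Fac == z0Key && isR z0Fac && comm8 z0Fac t0Key && !isR z0Key &&
    (genWord.all fun g => genKeys.contains g) && isR (mul8 z0Key z1Key)) = true := by decide +kernel

end Cfsg.Agent.Omega8Rec.Closed
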