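import Cfsg.Prelude.Def_Classical
import Mathlib.Data.Nat.Bitwise
import Mathlib.Data.ZMod.Basic
import Mathlib.LinearAlgebra.Matrix.GeneralLinearGroup.Defs

/-!
Elements of the orthogonal group of plus type in dimension eight over two elements as 64-bit numbers: byte `j` is
the image of the `j`-th coordinate vector.
-/

set_option autoImplicit false

namespace Cfsg.Agent.Omega8Rec.Closed

open Cfsg Matrix

/-- Coordinates. -/
abbrev J8 : Type := Fin 4 ⊕ Fin 4

/-- The group. -/
abbrev Gam : Type := ↥(Omega (ZMod 2) (quadFormPlus 4 (ZMod 2)))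

/-- The first bit of every byte. -/
def ones : ℕ := 72340172838076673

/-- One summand of the product. -/
def term (a b k : ℕ) : ℕ := (((b >>> k) &&& ones) * 255) &&& (((a >>> (8 * k)) &&& 255) * ones)

/-- The product of coded matrices. -/
def mul8 (a b : ℕ) : ℕ :=
  term a b 0 ^^^ term a b 1 ^^^ term a b 2 ^^^ term a b 3 ^^^ term a b 4 ^^^ term a b 5 ^^^ term a b 6 ^^^ term a b 7

/-- The code of the identity. -/
def one8 : ℕ := 9241421688590303745

/-- The coordinate at a position. -/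
def idx (i : ℕ) : J8 := if h : i < 4 then .inl ⟨i, h⟩ else .inr ⟨(i - 4) % 4, Nat.mod_lt _ (by norm_num)⟩

/-- Whether a scalar is one. -/
def b2 (x : ZMod 2) : Bool := decide (x = 1)

theorem b2_add : ∀ x y : ZMod 2, b2 (x + y) = (b2 x ^^ b2 y) := by decide

theorem b2_mul : ∀ x y : ZMod 2, b2 (x * y) = (b2 x && b2 y) := by decide

theorem b2_inj : ∀ x y : ZMod 2, b2 x = b2 y → x = y := by decide

/-- The code of a matrix. -/
def mcode (M : Matrix J8 J8 (ZMod 2)) : ℕ :=
  Nat.ofBits fun p : Fin 64 => b2 (M (idx ((p : ℕ) % 8)) (idx ((p : ℕ) / 8)))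

theorem testBit_mcode (M : Matrix J8 J8 (ZMod 2)) {i j : ℕ} (hi : i < 8) (hj : j < 8) :
    (mcode M).testBit (8 * j + i) = b2 (M (idx i) (idx j)) := by
  rw [mcode, Nat.testBit_ofBits_lt _ _ (show 8 * j + i < 64 by omega)]
  show b2 (M (idx ((8 * j + i) % 8)) (idx ((8 * j + i) / 8))) = _
  rw [show (8 * j + i) % 8 = i by omega, show (8 * j + i) / 8 = j by omega]

theorem mcode_lt (M : Matrix J8 J8 (ZMod 2)) : mcode M < 2 ^ 64 := Nat.ofBits_lt_two_pow _

theorem idx_surj : ∀ i : J8, ∃ n < 8, idx n = i := by decide +kernel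

theorem mcode_inj {M N : Matrix J8 J8 (ZMod 2)} (h : mcode M = mcode N) : M = N := by
  ext r c
  obtain ⟨i, hi, rfl⟩ := idx_surj r
  obtain ⟨j, hj, rfl⟩ := idx_surj c
  exact b2_inj _ _ (by rw [← testBit_mcode M hi hj, h, testBit_mcode N hi hj])

theorem eq_of_bits {a b : ℕ} (ha : a < 2 ^ 64) (hb : b < 2 ^ 64)
    (h : ∀ i < 8, ∀ j < 8, a.testBit (8 * j + i) = b.testBit (8 * j + i)) : a = b := by
  refine Nat.eq_of_testBit_eq fun p => ?_
  rcases Nat.lt_or_ge p 64 with hp | hp
  · have := h (p % 8) (by omega) (p / 8) (by omega)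
    rwa [Nat.div_add_mod] at this
  · rw [Nat.testBit_lt_two_pow (ha.trans_le (Nat.pow_le_pow_right (by norm_num) hp)),
      Nat.testBit_lt_two_pow (hb.trans_le (Nat.pow_le_pow_right (by norm_num) hp))]

/-- A mask from eight bits. -/
def maskOf (f : Fin 8 → Bool) : ℕ := Nat.ofBits fun p : Fin 64 =>
  if (p : ℕ) % 8 = 0 then f ⟨(p : ℕ) / 8, by omega⟩ else false

theorem ones_bit : ∀ p < 64, ones.testBit p = decide (p % 8 = 0) := by decide +kernel

theorem and_ones (x : ℕ) : x &&& ones = maskOf fun j => x.testBit (8 * (j : ℕ)) := by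
  refine Nat.eq_of_testBit_eq fun p => ?_
  rw [Nat.testBit_and]
  rcases Nat.lt_or_ge p 64 with hp | hp
  · rw [maskOf, Nat.testBit_ofBits_lt _ _ hp, ones_bit p hp]
    by_cases h : p % 8 = 0
    · simp only [h, if_true, decide_true, Bool.and_true]
      congr 1
      omega
    · simp [h]
  · rw [maskOf, Nat.testBit_ofBits_ge _ _ hp, Nat.testBit_lt_two_pow
      ((show ones < 2 ^ 64 by decide).trans_le (Nat.pow_le_pow_right (by norm_num) hp)), Bool.and_false]

theorem mask_bit : ∀ f : Fin 8 → Bool, ∀ i < 8, ∀ j < 8,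
    (maskOf f * 255).testBit (8 * j + i) = if h : j < 8 then f ⟨j, h⟩ else false := by decide +kernel

theorem byte_bit : ∀ c < 256, ∀ i < 8, ∀ j < 8, (c * ones).testBit (8 * j + i) = c.testBit i := by decide +kernel

theorem term_bit (a b : ℕ) {i j k : ℕ} (hi : i < 8) (hj : j < 8) :
    (term a b k).testBit (8 * j + i) = (b.testBit (8 * j + k) && a.testBit (8 * k + i)) := by
  rw [term, Nat.testBit_and, and_ones, mask_bit _ i hi j hj, dif_pos hj, Nat.testBit_shiftRight,
    byte_bit _ (lt_of_le_of_lt Nat.and_le_right (by norm_num)) i hi j hj, Nat.testBit_and,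
    Nat.testBit_shiftRight, show (255 : ℕ) = 2 ^ 8 - 1 from rfl, Nat.testBit_two_pow_sub_one, decide_eq_true hi,
    Bool.and_true, Nat.add_comm k]

theorem term_lt (a b k : ℕ) : term a b k < 2 ^ 64 := by
  refine lt_of_le_of_lt Nat.and_le_right (lt_of_le_of_lt (Nat.mul_le_mul_right _ Nat.and_le_right) ?_)
  decide

theorem sum_J8 (f : J8 → ZMod 2) :
    ∑ r, f r = f (idx 0) + f (idx 1) + f (idx 2) + f (idx 3) + f (idx 4) + f (idx 5) + f (idx 6) + f (idx 7) := by
  rw [Fintype.sum_sum_type, Fin.sum_univ_four, Fin.sum_univ_four]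
  simp only [idx]
  simp [add_assoc]

theorem mcode_mul (M N : Matrix J8 J8 (ZMod 2)) : mcode (M * N) = mul8 (mcode M) (mcode N) := by
  refine eq_of_bits (mcode_lt _) ?_ fun i hi j hj => ?_
  · exact Nat.xor_lt_two_pow (Nat.xor_lt_two_pow (Nat.xor_lt_two_pow (Nat.xor_lt_two_pow (Nat.xor_lt_two_pow
      (Nat.xor_lt_two_pow (Nat.xor_lt_two_pow (term_lt _ _ _) (term_lt _ _ _)) (term_lt _ _ _)) (term_lt _ _ _))
      (term_lt _ _ _)) (term_lt _ _ _)) (term_lt _ _ _)) (term_lt _ _ _)
  · rw [testBit_mcode _ hi hj, Matrix.mul_apply, sum_J8]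
    simp only [mul8, Nat.testBit_xor, term_bit _ _ hi hj, b2_add, b2_mul,
      testBit_mcode _ hi (show 0 < 8 by norm_num), testBit_mcode _ hi (show 1 < 8 by norm_num),
      testBit_mcode _ hi (show 2 < 8 by norm_num), testBit_mcode _ hi (show 3 < 8 by norm_num),
      testBit_mcode _ hi (show 4 < 8 by norm_num), testBit_mcode _ hi (show 5 < 8 by norm_num),
      testBit_mcode _ hi (show 6 < 8 by norm_num), testBit_mcode _ hi (show 7 < 8 by norm_num),
      testBit_mcode _ (show 0 < 8 by norm_num) hj, testBit_mcode _ (show 1 < 8 by norm_num) hj,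
      testBit_mcode _ (show 2 < 8 by norm_num) hj, testBit_mcode _ (show 3 < 8 by norm_num) hj,
      testBit_mcode _ (show 4 < 8 by norm_num) hj, testBit_mcode _ (show 5 < 8 by norm_num) hj,
      testBit_mcode _ (show 6 < 8 by norm_num) hj, testBit_mcode _ (show 7 < 8 by norm_num) hj, Bool.and_comm]

/-- The matrix of an element. -/
def gmat (g : Gam) : Matrix J8 J8 (ZMod 2) :=
  (((g : ↥(isometryGroup (ZMod 2) (quadFormPlus 4 (ZMod 2)))) : GL J8 (ZMod 2)) : Matrix J8 J8 (ZMod 2))

/-- The code of an element. -/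
def code (g : Gam) : ℕ := mcode (gmat g)

theorem code_mul (g h : Gam) : code (g * h) = mul8 (code g) (code h) := mcode_mul (gmat g) (gmat h)

theorem code_inj : Function.Injective code := fun _ _ h => Subtype.ext (Subtype.ext (Units.ext (mcode_inj h)))

theorem code_one : code (1 : Gam) = one8 := by
  show mcode (1 : Matrix J8 J8 (ZMod 2)) = one8
  decide +kernel

theorem code_eq_one {g : Gam} : code g = one8 ↔ g = 1 := by rw [← code_one, code_inj.eq_iff]

theorem code_comm {g h : Gam} : g * h = h * g ↔ mul8 (code g) (code h) = mul8 (code h) (code g) := by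
  rw [← code_mul, ← code_mul, code_inj.eq_iff]

end Cfsg.Agent.Omega8Rec.Closed
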