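import Cfsg.Agent.Lib.SchurMult.O82Hom
import Cfsg.Agent.Lib.Omega8Rec.Closed.ModelBits

/-!
The orthogonal group of plus type in dimension eight over two elements is generated by eight coded root elements.
-/

set_option autoImplicit false
set_option maxRecDepth 100000

namespace Cfsg.Agent.Omega8Rec.Closed

open Cfsg Cfsg.Agent.SchurMult Cfsg.Agent.PermCert Matrix
open scoped commutatorElement

theorem root_codes : ∀ k : Fin 8, mcode (mat8 (o82Roots.getD k 0)) = o82Roots.getD k 0 := by decide +kernel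

theorem card_gam : Nat.card Gam = 174182400 := by
  have hQ := Orth.qPlus_nondeg (F := ZMod 2) 4
  have h2 : (2 : ZMod 2) = 0 := by decide
  have hz : Subgroup.center Gam = ⊥ := by
    have := Orth.card_center_one hQ (by simp) (Or.inl h2)
    rw [Orth.coe_qPlus] at this
    exact Subgroup.card_eq_one.1 this
  have h := S0293.result (F := ZMod 2) (ZMod.card 2) 4 le_rfl
  have e : Nat.card Gam = Nat.card (Cfsg.POmega (ZMod 2) (quadFormPlus 4 (ZMod 2))) := by
    rw [Subgroup.card_eq_card_quotient_mul_card_subgroup (Subgroup.center Gam), Subgroup.card_eq_one.2 hz, mul_one]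
  rw [e]
  rw [show Nat.gcd 4 (2 ^ 4 - 1) = 1 by rfl, one_mul] at h
  rw [h]
  norm_num [Finset.prod_range_succ]

/-- **Generators.** -/
theorem exists_gens : ∃ x : Fin 8 → Gam, (∀ k, code (x k) = o82Roots.getD k 0) ∧
    Subgroup.closure (Set.range x) = ⊤ := by
  classical
  let O := isometryGroup (ZMod 2) (quadFormPlus 4 (ZMod 2))
  have hmem : ∀ m ∈ o82All, ∃ g : O, ((g : GL I8 (ZMod 2)) : Matrix I8 I8 (ZMod 2)) = mat8 m := by
    intro m hm
    refine ⟨⟨⟨mat8 m, mat8 m, o82_inv m hm, o82_inv m hm⟩, fun u v => ?_⟩, rfl⟩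
    exact o82_iso m hm u
  choose gm hgm using hmem
  have hroot : ∀ k : Fin 8, ∃ x : Gam,
      (((x : O) : GL I8 (ZMod 2)) : Matrix I8 I8 (ZMod 2)) = mat8 (o82Roots.getD k 0) := by
    intro k
    have hl : k.val < o82RootWit.length := k.2
    have h1 : (o82RootWit.getD k (0, 0)).1 ∈ o82All := by
      rw [List.getD_eq_getElem _ _ hl, o82All]
      exact List.mem_append_left _ (List.mem_append_right _ (List.mem_map_of_mem (List.getElem_mem hl)))
    have h2 : (o82RootWit.getD k (0, 0)).2 ∈ o82All := by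
      rw [List.getD_eq_getElem _ _ hl, o82All]
      exact List.mem_append_right _ (List.mem_map_of_mem (List.getElem_mem hl))
    refine ⟨⟨⁅gm _ h1, gm _ h2⁆, Subgroup.commutator_mem_commutator (Subgroup.mem_top _) (Subgroup.mem_top _)⟩, ?_⟩
    have hi : ∀ m (hm : m ∈ o82All), (gm m hm)⁻¹ = gm m hm := fun m hm => by
      refine inv_eq_of_mul_eq_one_right (Subtype.ext (Units.ext ?_))
      show ((gm m hm : GL I8 (ZMod 2)) : Matrix I8 I8 (ZMod 2)) * ((gm m hm : GL I8 (ZMod 2)) : Matrix I8 I8 (ZMod 2)) = 1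
      rw [hgm, o82_inv m hm]
    show (((⁅gm _ h1, gm _ h2⁆ : O) : GL I8 (ZMod 2)) : Matrix I8 I8 (ZMod 2)) = _
    rw [commutatorElement_def, hi, hi, o82_wit, ← hgm _ h1, ← hgm _ h2]
    rfl
  choose xr hxr using hroot
  refine ⟨xr, fun k => ?_, ?_⟩
  · show mcode (((xr k : O) : GL I8 (ZMod 2)) : Matrix I8 I8 (ZMod 2)) = _
    rw [hxr, root_codes]
  let act : O → (I8 → ZMod 2) → (I8 → ZMod 2) := fun g v => ((g : GL I8 (ZMod 2)) : Matrix I8 I8 (ZMod 2)) *ᵥ v
  have act_mul : ∀ g g' v, act (g * g') v = act g (act g' v) := fun g g' v => by simp [act, Matrix.mulVec_mulVec]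
  have act_one : ∀ v, act 1 v = v := fun v => by simp [act]
  have act_Q : ∀ g v, quadFormPlus 4 (ZMod 2) (act g v) = quadFormPlus 4 (ZMod 2) v := fun g v => g.2 v v
  let Ω := {v : I8 → ZMod 2 // quadFormPlus 4 (ZMod 2) v = 1}
  let p : Fin 120 → Ω := fun i => ⟨o82Vec i, o82Vec_q i⟩
  have hp : Function.Bijective p :=
    ⟨fun i j e => o82Vec_inj i j (congrArg Subtype.val e), fun v =>
      (o82Vec_surj v.1 v.2).imp fun i hi => Subtype.ext hi⟩
  let E : Fin 120 ≃ Ω := Equiv.ofBijective p hp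
  let A : O →* Equiv.Perm Ω :=
    MonoidHom.mk' (fun g =>
      { toFun := fun v => ⟨act g v.1, by rw [act_Q]; exact v.2⟩
        invFun := fun v => ⟨act g⁻¹ v.1, by rw [act_Q]; exact v.2⟩
        left_inv := fun v => Subtype.ext (by simp [← act_mul, act_one])
        right_inv := fun v => Subtype.ext (by simp [← act_mul, act_one]) })
      (fun g g' => Equiv.ext fun v => Subtype.ext (act_mul g g' v.1))
  let ψ : O →* Equiv.Perm (Fin 120) := E.symm.permCongrHom.toMonoidHom.comp A
  have hψ : Function.Injective ψ := by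
    refine (E.symm.permCongrHom.injective).comp ((injective_iff_map_eq_one A).2 fun g hg => ?_)
    refine Subtype.ext (Units.ext (Matrix.ext_of_mulVec_single fun k => ?_))
    obtain ⟨i, j, hij⟩ := basis_sum k
    have hfix : ∀ i, act g (o82Vec i) = o82Vec i := fun i => congrArg Subtype.val (Equiv.ext_iff.1 hg (p i))
    show act g (Pi.single k 1) = ((1 : GL I8 (ZMod 2)) : Matrix I8 I8 (ZMod 2)) *ᵥ Pi.single k 1
    rw [Units.val_one, Matrix.one_mulVec, hij]
    show ((g : GL I8 (ZMod 2)) : Matrix I8 I8 (ZMod 2)) *ᵥ _ = _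
    rw [Matrix.mulVec_add]
    exact congrArg₂ (· + ·) (hfix i) (hfix j)
  let ψΩ : Gam →* Equiv.Perm (Fin 120) := ψ.comp (Omega (ZMod 2) (quadFormPlus 4 (ZMod 2))).subtype
  have hinj : Function.Injective ψΩ := hψ.comp Subtype.val_injective
  set S := Subgroup.closure (Set.range xr) with hS
  have hgen : ∀ g : Fin 2, toPerm 7 120 (o82Gens.getD g (0, 0)) ∈ S.map ψΩ := by
    intro g
    have hw : ∀ w : List ℕ, (∀ k ∈ w, k < 8) → ∃ x ∈ S,
        (((x : Gam) : O) : GL I8 (ZMod 2)).1 = ev8 w := by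
      intro w
      induction w with
      | nil => intro _; exact ⟨1, one_mem _, rfl⟩
      | cons k w ih =>
        intro hk
        obtain ⟨x, hxS, hx⟩ := ih fun y hy => hk y (List.mem_cons_of_mem _ hy)
        refine ⟨xr ⟨k, hk k List.mem_cons_self⟩ * x, mul_mem (Subgroup.subset_closure ⟨_, rfl⟩) hxS, ?_⟩
        show (((xr _ : Gam) : O) : GL I8 (ZMod 2)).1 * (((x : Gam) : O) : GL I8 (ZMod 2)).1 = _
        rw [hxr, hx, ev8]
    obtain ⟨x, hxS, hx⟩ := hw (o82Words.getD g []) (by
      rw [List.getD_eq_getElem _ _ (show (g : ℕ) < o82Words.length from g.2)]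
      exact o82_words_lt _ (List.getElem_mem _))
    refine ⟨x, hxS, Equiv.ext fun i => E.injective (Subtype.ext ?_)⟩
    show (E (E.symm (A (x : O) (E i))) : Ω).1 = _
    rw [Equiv.apply_symm_apply]
    show (((x : O) : GL I8 (ZMod 2)) : Matrix I8 I8 (ZMod 2)) *ᵥ o82Vec i = o82Vec (toPerm 7 120 _ i)
    rw [hx, o82_act]
  have hle : genGroup 7 120 o82Gens ≤ S.map ψΩ := by
    refine (Subgroup.closure_le _).2 fun σ hσ => ?_
    obtain ⟨e, he, rfl⟩ := List.mem_map.1 hσ
    rw [show o82Gens = [o82Gens.getD 0 (0, 0), o82Gens.getD 1 (0, 0)] from rfl] at he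
    simp only [List.mem_cons, List.not_mem_nil, or_false] at he
    rcases he with rfl | rfl
    exacts [hgen 0, hgen 1]
  refine Subgroup.eq_top_of_le_card _ ?_
  rw [card_gam, ← o82_order, ← cert_card o82_cert, ← Nat.card_congr (S.equivMapOfInjective ψΩ hinj).toEquiv.symm]
  exact Subgroup.card_le_of_le hle

end Cfsg.Agent.Omega8Rec.Closed
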