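import Cfsg.Agent.Lib.Omega8Rec.Closed.Key
import Cfsg.Agent.Lib.Omega8Rec.Closed.ModelGen
import Cfsg.Agent.Lib.Omega8Rec.Closed.Checks
import Mathlib.GroupTheory.OrderOfElement

/-!
What the certificate says about the orthogonal group of plus type in dimension eight over two elements.
-/

set_option autoImplicit false
set_option maxRecDepth 100000

namespace Cfsg.Agent.Omega8Rec.Closed

open Cfsg Cfsg.Agent.SchurMult

/-- What the closing argument needs of the model. -/
structure Facts (t0 z0 : Gam) : Prop where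
  t_code : code t0 = t0Key
  sq : z0 * z0 = 1
  not_R : ¬ InR ⊤ t0 z0
  prod : InP ⊤ t0 z0
  gen : t0 ∈ Subgroup.closure {v | ∃ m ∈ (⊤ : Subgroup Gam), m * z0 * m⁻¹ = v}
  lev : ∀ a', InR ⊤ t0 a' → t0 * a' = a' * t0 → a' ≠ t0 → InR ⊤ t0 (t0 * a') ∨ Level ⊤ t0 (t0 * a')
  far : ∀ m ∈ (⊤ : Subgroup Gam), m * z0 * m⁻¹ * t0 = t0 * (m * z0 * m⁻¹) → t0 * (m * z0 * m⁻¹) ≠ 1 →
    InP ⊤ t0 (t0 * (m * z0 * m⁻¹)) ∨ ∃ a, InR ⊤ t0 a ∧ a * (t0 * (m * z0 * m⁻¹)) = t0 * (m * z0 * m⁻¹) * a ∧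
      ¬ InP ⊤ t0 (t0 * (m * z0 * m⁻¹) * a)
  e_R : ∀ g, code g = e0Key → InR ⊤ t0 g

theorem R_sq' {t0 v : Gam} (h2 : t0 * t0 = 1) (h : InR ⊤ t0 v) : v * v = 1 := by
  obtain ⟨m, -, rfl⟩ := h
  calc m * t0 * m⁻¹ * (m * t0 * m⁻¹) = m * (t0 * t0) * m⁻¹ := by group
    _ = 1 := by rw [h2]; group

theorem comm8_iff {g h : Gam} : comm8 (code g) (code h) = true ↔ g * h = h * g := by
  rw [comm8, beq_iff_eq, code_comm]

/-- Conjugation by an involution on codes. -/
theorem code_conj {g p : Gam} (hg : g * g = 1) : code (g * p * g⁻¹) = mul8 (mul8 (code g) (code p)) (code g) := by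
  rw [inv_eq_of_mul_eq_one_right hg, code_mul, code_mul]

theorem level_conj {t0 : Gam} {g : Gam} (hg : g * t0 = t0 * g) {w : Gam} (h : Level ⊤ t0 w) :
    Level ⊤ t0 (g * w * g⁻¹) := by
  let f : Gam ≃* Gam := MulAut.conj g
  have hf : f t0 = t0 := by show g * t0 * g⁻¹ = t0; rw [hg, mul_inv_cancel_right]
  have hR : ∀ v, InR ⊤ t0 (f v) ↔ InR ⊤ t0 v := by
    refine fun v => ⟨fun h => ?_, fun h => Ctx.R_conj (Subgroup.mem_top g) h⟩
    have := Ctx.R_conj (Subgroup.mem_top g⁻¹) h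
    rwa [show g⁻¹ * f v * g⁻¹⁻¹ = v by show g⁻¹ * (g * v * g⁻¹) * g⁻¹⁻¹ = v; group] at this
  have hnear : ∀ E v, Near ⊤ t0 (E.map f) (f v) ↔ Near ⊤ t0 E v := by
    intro E v
    refine or_congr (hR v) ⟨?_, ?_⟩
    · rintro ⟨e, he, h⟩
      obtain ⟨e, he', rfl⟩ := List.mem_map.1 he
      exact ⟨e, he', (hR _).1 (by rwa [map_mul])⟩
    · rintro ⟨e, he, h⟩
      exact ⟨f e, List.mem_map_of_mem he, by rw [← map_mul]; exact (hR _).2 h⟩
  have hwit : ∀ (E : List Gam) (n n' : Gam → Prop), (∀ v, n v → n' (f v)) → Wit ⊤ t0 E n →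
      Wit ⊤ t0 (E.map f) n' := by
    rintro E n n' hn ⟨a, c, ha, hc, haE, hcE, hna, ⟨e, he, hec⟩, hq⟩
    refine ⟨f a, f c, (hR a).2 ha, (hR c).2 hc, ?_, ?_, ?_, ⟨f e, List.mem_map_of_mem he, ?_⟩, ?_⟩
    · intro x hx
      obtain ⟨x, hx', rfl⟩ := List.mem_map.1 hx
      rw [← map_mul, ← map_mul, haE x hx']
    · intro x hx
      obtain ⟨x, hx', rfl⟩ := List.mem_map.1 hx
      rw [← map_mul, ← map_mul, hcE x hx']
    · intro x hx
      obtain ⟨x, hx', rfl⟩ := List.mem_map.1 hx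
      rw [← map_mul, hR]
      exact hna x hx'
    · rw [← map_mul, hR]; exact hec
    · intro a' ha' h1 h2 h3
      obtain ⟨b, rfl⟩ := f.surjective a'
      rw [← map_mul]
      refine hn _ (hq b ((hR b).1 ha') (fun x hx => f.injective ?_) (f.injective ?_) fun e => h3 (by rw [e]))
      · rw [map_mul, map_mul]; exact h1 _ (List.mem_map_of_mem hx)
      · rw [map_mul, map_mul]; exact h2
  show Wit ⊤ t0 ([w].map f) fun p =>
    Near ⊤ t0 ([w].map f) p ∨ Wit ⊤ t0 [f w, p, f w * p] (Near ⊤ t0 [f w, p, f w * p])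
  exact hwit [w] _ _ (fun p hp => hp.imp (hnear [w] p).2 fun h => by
    have := hwit [w, p, w * p] _ (Near ⊤ t0 ([w, p, w * p].map f)) (fun v hv => (hnear _ v).2 hv) h
    simpa only [List.map_cons, List.map_nil, map_mul] using this) h

set_option maxHeartbeats 2000000 in
/-- **The facts.** -/
theorem exists_facts : ∃ t0 z0 : Gam, Facts t0 z0 := by
  obtain ⟨x, hx, hgen⟩ := exists_gens
  have hxg : ∀ k, code (x k) ∈ genKeys := by
    intro k
    rw [hx]
    revert k
    decide +kernel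
  have hkey : ∀ g ∈ genKeys, ∃ k, code (x k) = g := by
    intro g hg
    have : ∀ g ∈ genKeys, ∃ k : Fin 8, o82Roots.getD k 0 = g := by decide +kernel
    obtain ⟨k, hk⟩ := this g hg
    exact ⟨k, (hx k).trans hk⟩
  have hsq : ∀ k, x k * x k = 1 := by
    intro k
    rw [← code_eq_one, code_mul]
    exact beq_iff_eq.1 (List.all_eq_true.1 gen_sq _ (hxg k))
  set t0 := x 0 with ht0
  have htc : code t0 = t0Key := by rw [hx, ← t0_gen]; decide +kernel
  have ht2 : t0 * t0 = 1 := hsq 0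
  have Rsq := fun {v : Gam} (h : InR ⊤ t0 v) => R_sq' ht2 h
  -- the orbit is closed
  have hstep : ∀ (k : Fin 8) (v : Gam), isR (code v) = true → isR (code (x k * v * (x k)⁻¹)) = true := by
    intro k v hv
    rw [code_conj (hsq k)]
    exact List.all_eq_true.1 (List.all_eq_true.1 r_closed _ (OTree.mem_keys hv)) _ (hxg k)
  have hclosed : ∀ m v : Gam, isR (code v) = true → isR (code (m * v * m⁻¹)) = true := by
    intro m
    have hm : m ∈ Subgroup.closure (Set.range x) := by rw [hgen]; trivial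
    induction hm using Subgroup.closure_induction_left with
    | one => intro v hv; simpa using hv
    | mul_left y hy m _ ih =>
      obtain ⟨k, rfl⟩ := hy
      intro v hv
      rw [show x k * m * v * (x k * m)⁻¹ = x k * (m * v * m⁻¹) * (x k)⁻¹ by group]
      exact hstep k _ (ih v hv)
    | inv_mul_cancel y hy m _ ih =>
      obtain ⟨k, rfl⟩ := hy
      intro v hv
      rw [show (x k)⁻¹ = x k from inv_eq_of_mul_eq_one_right (hsq k)]
      rw [show x k * m * v * (x k * m)⁻¹ = x k * (m * v * m⁻¹) * (x k)⁻¹ by group]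
      exact hstep k _ (ih v hv)
  have R_to : ∀ {v : Gam}, InR ⊤ t0 v → isR (code v) = true := by
    rintro v ⟨m, -, rfl⟩
    exact hclosed m t0 (by rw [htc]; exact t0_R)
  have R_of : ∀ {k : ℕ}, isR k = true → ∃ v, InR ⊤ t0 v ∧ code v = k := by
    intro k hk
    refine orb_ind r_orbit (P := fun k => ∃ v, InR ⊤ t0 v ∧ code v = k) ?_ ?_ hk
    · intro k hk
      exact ⟨t0, ⟨1, trivial, by group⟩, htc.trans (beq_iff_eq.1 hk).symm⟩
    · rintro p g hg ⟨v, hv, rfl⟩
      obtain ⟨j, rfl⟩ := hkey g (List.contains_iff_mem.1 hg)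
      exact ⟨_, Ctx.R_conj trivial hv, code_conj (hsq j)⟩
  have R_iff : ∀ {v : Gam}, InR ⊤ t0 v ↔ isR (code v) = true := fun {v} =>
    ⟨R_to, fun h => by obtain ⟨w, hw, e⟩ := R_of h; rwa [← code_inj e]⟩
  have hcent : ∀ {w r : Gam}, InR ⊤ t0 r → r * w = w * r → code r ∈ centList (code w) := fun hr h =>
    List.mem_filter.2 ⟨OTree.mem_keys (R_to hr), comm8_iff.2 h⟩
  have hnear : ∀ (E : List Gam) (v : Gam), near8 (E.map code) (code v) = true → Near ⊤ t0 E v := by
    intro E v h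
    rw [near8, Bool.or_eq_true, List.any_map, List.any_eq_true] at h
    rcases h with h | ⟨e, he, h⟩
    · exact Or.inl (R_iff.2 h)
    · refine Or.inr ⟨e, he, R_iff.2 ?_⟩
      rw [code_mul]
      exact h
  have hwit : ∀ (L : List ℕ) (E : List Gam) (a c : ℕ) (n : ℕ → Bool) (N : Gam → Prop),
      witOK L (E.map code) a c n = true →
      (∀ r, InR ⊤ t0 r → (∀ e ∈ E, r * e = e * r) → code r ∈ L) →
      (∀ v, n (code v) = true → N v) → Wit ⊤ t0 E N := by
    intro L E a c n N h hL hn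
    rw [witOK] at h
    simp only [Bool.and_eq_true, List.all_eq_true, List.any_map, List.all_map, List.any_eq_true, Function.comp] at h
    obtain ⟨⟨⟨⟨ha, hc⟩, hE⟩, e, he, hec⟩, hall⟩ := h
    obtain ⟨a', ha', rfl⟩ := R_of ha
    obtain ⟨c', hc', rfl⟩ := R_of hc
    refine ⟨a', c', ha', hc', fun e he => comm8_iff.1 (hE e he).1.1, fun e he => comm8_iff.1 (hE e he).1.2,
      fun e he hr => ?_, ⟨e, he, R_iff.2 (by rw [code_mul]; exact hec)⟩, fun r hr h1 h2 h3 => hn _ ?_⟩
    · have := (hE e he).2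
      rw [← code_mul, R_to hr] at this
      exact Bool.false_ne_true this
    · have := hall _ (hL r hr h1)
      have hne : (code r == code a') = false := beq_eq_false_iff_ne.2 fun e => h3 (code_inj e)
      have hcm : comm8 (code a') (code r) = true := comm8_iff.2 h2
      have hall' : E.all (fun x => comm8 (code r) (code x)) = true :=
        List.all_eq_true.2 fun x hx => comm8_iff.2 (h1 x hx)
      simp only [hne, hcm, Bool.not_true, Bool.false_or, Bool.or_eq_true, Bool.not_eq_true'] at this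
      rw [code_mul]
      rcases this with h | h
      · exact absurd (h.symm.trans hall') Bool.false_ne_true
      · exact h
  have hlev : ∀ d ∈ levData, ∀ a0 : Gam, code a0 = d.1 → Level ⊤ t0 (t0 * a0) := by
    intro d hd a0 ha0
    have h := List.all_eq_true.1 lev_all d hd
    have hw : mul8 t0Key d.1 = code (t0 * a0) := by rw [code_mul, htc, ha0]
    simp only [levOK] at h
    rw [hw] at h
    refine hwit (centList (code (t0 * a0))) [t0 * a0] d.2.1 d.2.2.1
      (fun p => near8 [code (t0 * a0)] p || d.2.2.2.any fun s => s.1 == p && witOK (centList (code (t0 * a0)))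
        [code (t0 * a0), p, mul8 (code (t0 * a0)) p] s.2.1 s.2.2 (near8 [code (t0 * a0), p, mul8 (code (t0 * a0)) p]))
      _ h (fun r hr h1 => hcent hr (h1 _ (List.mem_singleton_self _))) fun p hp => ?_
    rw [Bool.or_eq_true, List.any_eq_true] at hp
    rcases hp with hp | ⟨s, hs, hp⟩
    · exact Or.inl (hnear [t0 * a0] p hp)
    · rw [Bool.and_eq_true, beq_iff_eq] at hp
      refine Or.inr (hwit (centList (code (t0 * a0))) [t0 * a0, p, t0 * a0 * p] s.2.1 s.2.2
        (near8 ([t0 * a0, p, t0 * a0 * p].map code)) _ ?_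
        (fun r hr h1 => hcent hr (h1 _ List.mem_cons_self)) fun v hv => hnear _ v hv)
      simpa only [List.map_cons, List.map_nil, code_mul] using hp.2
  -- the partners
  have hct : ∀ {k : ℕ}, ctTree.has k = true →
      ∃ a', code a' = k ∧ Level ⊤ t0 (t0 * a') ∧ InvP (t0 * a') := by
    intro k hk
    refine orb_ind ct_orbit (P := fun k => ∃ a', code a' = k ∧ Level ⊤ t0 (t0 * a') ∧ InvP (t0 * a')) ?_ ?_ hk
    · intro k hk
      obtain ⟨d, hd, e⟩ := List.any_eq_true.1 hk
      rw [beq_iff_eq] at e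
      obtain ⟨a, -, ha⟩ := R_of (k := d.1) (by
        have := List.all_eq_true.1 (show (levData.all fun d => isR d.1) = true by decide +kernel) d hd
        exact this)
      refine ⟨a, ha.trans e, hlev d hd a ha, (invP_iff _).2 ?_⟩
      rw [code_mul, htc, ha]
      exact List.all_eq_true.1 lev_inv d hd
    · rintro p g hg ⟨a', rfl, h1, h2⟩
      rw [Bool.and_eq_true] at hg
      obtain ⟨g', hg', rfl⟩ := R_of hg.1
      have hgt : g' * t0 = t0 * g' := comm8_iff.1 (by rw [htc]; exact hg.2)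
      have e : g' * (t0 * a') * g'⁻¹ = t0 * (g' * a' * g'⁻¹) := by rw [← mul_assoc g', hgt]; group
      exact ⟨g' * a' * g'⁻¹, code_conj (Rsq hg'), e ▸ level_conj hgt h1, e ▸ h2.conj g'⟩
  have inv_t : InvP t0 := (invP_iff _).2 (by rw [htc]; exact (Bool.and_eq_true _ _ ▸ inv_small).2)
  have hpart : ∀ a', InR ⊤ t0 a' → t0 * a' = a' * t0 → a' ≠ t0 →
      (InR ⊤ t0 (t0 * a') ∨ Level ⊤ t0 (t0 * a')) ∧ InvP (t0 * a') := by
    intro a' ha hc hne
    have := List.all_eq_true.1 ct_complete (code a') (List.mem_filter.2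
      ⟨OTree.mem_keys (R_to ha), by rw [← htc]; exact comm8_iff.2 hc.symm⟩)
    rw [Bool.or_eq_true, Bool.or_eq_true, beq_iff_eq, ← htc, ← code_mul] at this
    rcases this with (h | h) | h
    · exact absurd (code_inj h) hne
    · refine ⟨Or.inl (R_iff.2 h), ?_⟩
      obtain ⟨m, -, e⟩ := R_iff.2 h
      rw [← e]
      exact inv_t.conj m
    · obtain ⟨b, hb, h1, h2⟩ := hct h
      rw [code_inj hb] at h1 h2
      exact ⟨Or.inr h1, h2⟩
  have hinvP : ∀ v, InP ⊤ t0 v → InvP v := by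
    rintro v ⟨r, r', ⟨m, hm, rfl⟩, hr', hc, rfl⟩
    set a' := m⁻¹ * r' * m with ha'
    have hR' : InR ⊤ t0 a' := by simpa using Ctx.R_conj (inv_mem hm) hr'
    have e : m * t0 * m⁻¹ * r' = m * (t0 * a') * m⁻¹ := by rw [ha']; group
    rw [e]
    refine InvP.conj m ?_
    rcases eq_or_ne a' t0 with h | h
    · rw [h, ht2, invP_iff, code_one]
      exact (Bool.and_eq_true _ _ ▸ inv_small).1
    · refine (hpart a' hR' ?_ h).2
      calc t0 * a' = m⁻¹ * (m * t0 * m⁻¹ * r') * m := by rw [ha']; group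
        _ = m⁻¹ * (r' * (m * t0 * m⁻¹)) * m := by rw [hc]
        _ = a' * t0 := by rw [ha']; group
  -- the second involution
  have hz := z0_ok
  simp only [Bool.and_eq_true, beq_iff_eq, Bool.not_eq_true'] at hz
  obtain ⟨⟨⟨⟨⟨hzf, hfR⟩, hfc⟩, hzR⟩, hword⟩, hprod⟩ := hz
  obtain ⟨f, hf, rfl'⟩ := R_of hfR
  set z0 := t0 * f with hz0
  have hzc : code z0 = z0Key := by rw [hz0, code_mul, htc, rfl', hzf]
  have hft : t0 * f = f * t0 := (comm8_iff.1 (by rw [rfl', htc]; exact hfc)).symm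
  have hzz : z0 * z0 = 1 := by
    rw [hz0]
    nth_rewrite 2 [hft]
    rw [mul_assoc, ← mul_assoc f f, Rsq hf, one_mul, ht2]
  refine ⟨t0, z0, ⟨htc, hzz, fun h => ?_, ⟨t0, f, ⟨1, trivial, by group⟩, hf, hft, rfl⟩, ?_,
    fun a' h1 h2 h3 => (hpart a' h1 h2 h3).1, ?_, fun g hg => R_iff.2 (by rw [hg]; exact e0_R)⟩⟩
  · rw [R_iff, hzc, hzR] at h
    exact Bool.false_ne_true h
  · -- generation
    set S : Subgroup Gam := Subgroup.closure {v | ∃ m ∈ (⊤ : Subgroup Gam), m * z0 * m⁻¹ = v} with hS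
    have hw : ∀ w : List ℕ, (∀ g ∈ w, g ∈ genKeys) →
        ∃ m, code (m * z0 * m⁻¹) = w.foldr (fun g y => mul8 (mul8 g y) g) z0Key := by
      intro w
      induction w with
      | nil => intro _; exact ⟨1, by simpa using hzc⟩
      | cons g w ih =>
        intro hg
        obtain ⟨m, hm⟩ := ih fun y hy => hg y (List.mem_cons_of_mem _ hy)
        obtain ⟨j, hj⟩ := hkey g (hg g List.mem_cons_self)
        refine ⟨x j * m, ?_⟩
        rw [List.foldr_cons, ← hm, ← hj, show x j * m * z0 * (x j * m)⁻¹ = x j * (m * z0 * m⁻¹) * (x j)⁻¹ by group,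
          code_conj (hsq j)]
    obtain ⟨m, hm⟩ := hw genWord fun g hg => List.contains_iff_mem.1 (List.all_eq_true.1 hword g hg)
    have hRp : InR ⊤ t0 (z0 * (m * z0 * m⁻¹)) := R_iff.2 (by rw [code_mul, hm, hzc]; exact hprod)
    obtain ⟨n, -, hn⟩ := hRp
    have hmem : z0 * (m * z0 * m⁻¹) ∈ S :=
      mul_mem (Subgroup.subset_closure ⟨1, trivial, by group⟩) (Subgroup.subset_closure ⟨m, trivial, rfl⟩)
    have hnorm : ∀ v ∈ S, ∀ g : Gam, g * v * g⁻¹ ∈ S := by
      intro v hv g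
      have : S ≤ S.comap (MulAut.conj g).toMonoidHom := by
        rw [hS, Subgroup.closure_le]
        rintro _ ⟨m, -, rfl⟩
        exact Subgroup.subset_closure ⟨g * m, trivial, by simp [MulAut.conj_apply]; group⟩
      exact this hv
    have := hnorm _ hmem n⁻¹
    rw [← hn] at this
    rwa [show n⁻¹ * (n * t0 * n⁻¹) * n⁻¹⁻¹ = t0 by group] at this
  · -- the separating elements
    intro m hm hc hne
    set r := m⁻¹ * t0 * m with hr
    have hR : InR ⊤ t0 r := ⟨m⁻¹, trivial, by rw [hr]; group⟩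
    have hrz : r * z0 = z0 * r := by
      calc r * z0 = m⁻¹ * (t0 * (m * z0 * m⁻¹)) * m := by rw [hr]; group
        _ = m⁻¹ * (m * z0 * m⁻¹ * t0) * m := by rw [hc]
        _ = z0 * r := by rw [hr]; group
    have e : t0 * (m * z0 * m⁻¹) = m * (r * z0) * m⁻¹ := by rw [hr]; group
    have hne' : r * z0 ≠ 1 := fun h => hne (by rw [e, h]; group)
    have := List.all_eq_true.1 far_all (code r) (by rw [← hzc]; exact hcent hR hrz)
    rw [← hzc, ← code_mul, Bool.or_eq_true, beq_iff_eq] at this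
    rcases this with h | h
    · exact absurd (code_eq_one.1 h) hne'
    · obtain ⟨s, -, hs⟩ := List.any_eq_true.1 h
      rw [farOne] at hs
      simp only [Bool.and_eq_true, beq_iff_eq] at hs
      obtain ⟨⟨⟨-, haR⟩, hac⟩, hs⟩ := hs
      obtain ⟨a, ha, hae⟩ := R_of haR
      rw [← hae, ← hzc, ← code_mul, comm8_iff] at hac
      cases hb : s.2.1
      · rw [hb] at hs
        simp only [Bool.false_eq_true, if_false, Bool.not_eq_true'] at hs
        rw [← hae, ← hzc, ← code_mul, ← code_mul] at hs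
        refine Or.inr ⟨m * a * m⁻¹, Ctx.R_conj hm ha, ?_, fun hP => ?_⟩
        · rw [e]
          calc m * a * m⁻¹ * (m * (r * z0) * m⁻¹) = m * (a * (r * z0)) * m⁻¹ := by group
            _ = m * (r * z0) * m⁻¹ * (m * a * m⁻¹) := by rw [hac]; group
        · have h1 := (invP_iff _).1 (hinvP _ (InP.conj (inv_mem hm) hP))
          rw [e, show m⁻¹ * (m * (r * z0) * m⁻¹ * (m * a * m⁻¹)) * m⁻¹⁻¹ = r * z0 * a by group, hs] at h1
          exact Bool.false_ne_true h1
      · rw [hb] at hs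
        simp only [if_true] at hs
        rw [← hae, ← hzc, ← code_mul, ← code_mul] at hs
        have haa : a * a = 1 := Rsq ha
        rw [e]
        refine Or.inl (InP.conj hm ⟨a, a * (r * z0), ha, R_iff.2 hs, ?_, ?_⟩)
        · calc a * (a * (r * z0)) = a * ((r * z0) * a) := by rw [hac]
            _ = _ := (mul_assoc _ _ _).symm
        · rw [← mul_assoc, haa, one_mul]

end Cfsg.Agent.Omega8Rec.Closed
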