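import Cfsg.Agent.Lib.Omega8Rec.Closed.ModelBits

/-!
The action of a coded element on coded vectors, and an invariant of the products of two commuting long root elements.
-/

set_option autoImplicit false

namespace Cfsg.Agent.Omega8Rec.Closed

open Cfsg Matrix

/-- The code of a vector. -/
def enc (v : J8 → ZMod 2) : ℕ := Nat.ofBits fun p : Fin 8 => b2 (v (idx p))

/-- The image of a coded vector. -/
def apv (g x : ℕ) : ℕ := mul8 g x &&& 255

/-- The form on a coded vector. -/
def q8 (y : ℕ) : Bool :=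
  ((y.testBit 0 && y.testBit 4) ^^ (y.testBit 1 && y.testBit 5)) ^^ (y.testBit 2 && y.testBit 6) ^^
    (y.testBit 3 && y.testBit 7)

/-- The invariant of a coded element: it moves every vector into the form's zeros, or fixes many vectors. -/
def inv8 (g : ℕ) : Bool :=
  (List.range 256).all (fun x => !q8 (x ^^^ apv g x)) ||
    Nat.ble 64 ((List.range 256).filter fun x => apv g x == x).length

/-- The invariant. -/
def InvP (g : Gam) : Prop :=
  (∀ v : J8 → ZMod 2, quadFormPlus 4 (ZMod 2) (v + gmat g *ᵥ v) = 0) ∨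
    64 ≤ (Finset.univ.filter fun v : J8 → ZMod 2 => gmat g *ᵥ v = v).card

theorem testBit_enc (v : J8 → ZMod 2) {i : ℕ} (hi : i < 8) : (enc v).testBit i = b2 (v (idx i)) :=
  Nat.testBit_ofBits_lt _ _ hi

theorem enc_lt (v : J8 → ZMod 2) : enc v < 256 := Nat.ofBits_lt_two_pow _

theorem enc_inj {v w : J8 → ZMod 2} (h : enc v = enc w) : v = w := by
  funext r
  obtain ⟨i, hi, rfl⟩ := idx_surj r
  exact b2_inj _ _ (by rw [← testBit_enc v hi, h, testBit_enc w hi])

theorem enc_surj {x : ℕ} (hx : x < 256) : ∃ v, enc v = x := by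
  refine ⟨fun r => if x.testBit (match r with | .inl k => k | .inr k => 4 + k) then 1 else 0, ?_⟩
  refine Nat.eq_of_testBit_eq fun p => ?_
  rcases Nat.lt_or_ge p 8 with hp | hp
  · have key : ∀ b : Bool, b2 (if b then 1 else 0) = b := by decide
    rw [testBit_enc _ hp]
    refine (key _).trans ?_
    interval_cases p <;> rfl
  · rw [Nat.testBit_lt_two_pow ((enc_lt _).trans_le (Nat.pow_le_pow_right (n := 2) (i := 8) (by norm_num) hp)),
      Nat.testBit_lt_two_pow (hx.trans_le (Nat.pow_le_pow_right (n := 2) (i := 8) (by norm_num) hp))]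

theorem enc_apv (g : Gam) (v : J8 → ZMod 2) : enc (gmat g *ᵥ v) = apv (code g) (enc v) := by
  refine Nat.eq_of_testBit_eq fun p => ?_
  rw [apv, Nat.testBit_and, show (255 : ℕ) = 2 ^ 8 - 1 from rfl, Nat.testBit_two_pow_sub_one]
  rcases Nat.lt_or_ge p 8 with hp | hp
  · rw [decide_eq_true hp, Bool.and_true, testBit_enc _ hp]
    show b2 (∑ r, gmat g (idx p) r * v r) = _
    rw [sum_J8]
    have ht : ∀ k, (term (code g) (enc v) k).testBit p = ((enc v).testBit k && (code g).testBit (8 * k + p)) :=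
      fun k => by simpa using term_bit (code g) (enc v) (k := k) hp (show 0 < 8 by norm_num)
    have hc : ∀ k, k < 8 → (code g).testBit (8 * k + p) = b2 (gmat g (idx p) (idx k)) :=
      fun k hk => testBit_mcode _ hp hk
    simp only [mul8, Nat.testBit_xor, ht, b2_add, b2_mul, hc 0 (by norm_num), hc 1 (by norm_num), hc 2 (by norm_num),
      hc 3 (by norm_num), hc 4 (by norm_num), hc 5 (by norm_num), hc 6 (by norm_num), hc 7 (by norm_num),
      testBit_enc v (show 0 < 8 by norm_num), testBit_enc v (show 1 < 8 by norm_num),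
      testBit_enc v (show 2 < 8 by norm_num), testBit_enc v (show 3 < 8 by norm_num),
      testBit_enc v (show 4 < 8 by norm_num), testBit_enc v (show 5 < 8 by norm_num),
      testBit_enc v (show 6 < 8 by norm_num), testBit_enc v (show 7 < 8 by norm_num), Bool.and_comm]
  · rw [decide_eq_false (by omega), Bool.and_false]
    exact Nat.testBit_lt_two_pow ((enc_lt _).trans_le (Nat.pow_le_pow_right (n := 2) (i := 8) (by norm_num) hp))

theorem enc_add (v w : J8 → ZMod 2) : enc (v + w) = enc v ^^^ enc w := by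
  refine Nat.eq_of_testBit_eq fun p => ?_
  rw [Nat.testBit_xor]
  rcases Nat.lt_or_ge p 8 with hp | hp
  · rw [testBit_enc _ hp, testBit_enc _ hp, testBit_enc _ hp, Pi.add_apply, b2_add]
  · have h : ∀ u : J8 → ZMod 2, (enc u).testBit p = false := fun u =>
      Nat.testBit_lt_two_pow ((enc_lt _).trans_le (Nat.pow_le_pow_right (n := 2) (i := 8) (by norm_num) hp))
    simp [h]

theorem b2_quad (v : J8 → ZMod 2) : b2 (quadFormPlus 4 (ZMod 2) v) = q8 (enc v) := by
  simp only [q8, quadFormPlus, Fin.sum_univ_four, b2_add, b2_mul,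
    testBit_enc v (show 0 < 8 by norm_num), testBit_enc v (show 1 < 8 by norm_num),
    testBit_enc v (show 2 < 8 by norm_num), testBit_enc v (show 3 < 8 by norm_num),
    testBit_enc v (show 4 < 8 by norm_num), testBit_enc v (show 5 < 8 by norm_num),
    testBit_enc v (show 6 < 8 by norm_num), testBit_enc v (show 7 < 8 by norm_num)]
  rfl

theorem invP_iff (g : Gam) : InvP g ↔ inv8 (code g) = true := by
  have e1 : ∀ v, (gmat g *ᵥ v = v) ↔ apv (code g) (enc v) = enc v :=
    fun v => ⟨fun h => by rw [← enc_apv, h], fun h => enc_inj (by rw [enc_apv, h])⟩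
  have e2 : ∀ v, quadFormPlus 4 (ZMod 2) (v + gmat g *ᵥ v) = 0 ↔
      q8 (enc v ^^^ apv (code g) (enc v)) = false := by
    intro v
    rw [← enc_apv, ← enc_add, ← b2_quad]
    generalize quadFormPlus 4 (ZMod 2) (v + gmat g *ᵥ v) = x
    revert x
    decide
  have hcard : (Finset.univ.filter fun v : J8 → ZMod 2 => gmat g *ᵥ v = v).card =
      ((List.range 256).filter fun x => apv (code g) x == x).length := by
    rw [← List.toFinset_card_of_nodup (List.nodup_range.filter _)]
    refine Finset.card_bij (fun v _ => enc v) ?_ (fun a _ b _ h => enc_inj h) ?_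
    · intro v hv
      rw [List.mem_toFinset, List.mem_filter, List.mem_range, beq_iff_eq]
      exact ⟨enc_lt v, (e1 v).1 (Finset.mem_filter.1 hv).2⟩
    · intro x hx
      rw [List.mem_toFinset, List.mem_filter, List.mem_range, beq_iff_eq] at hx
      obtain ⟨v, rfl⟩ := enc_surj hx.1
      exact ⟨v, Finset.mem_filter.2 ⟨Finset.mem_univ _, (e1 v).2 hx.2⟩, rfl⟩
  rw [inv8, Bool.or_eq_true, InvP, hcard, Nat.ble_eq, List.all_eq_true]
  refine or_congr ⟨fun h x hx => ?_, fun h v => ?_⟩ Iff.rfl
  · obtain ⟨v, rfl⟩ := enc_surj (List.mem_range.1 hx)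
    rw [(e2 v).1 (h v)]
    rfl
  · exact (e2 v).2 (by simpa using h _ (List.mem_range.2 (enc_lt v)))

theorem gmat_mul (g h : Gam) : gmat (g * h) = gmat g * gmat h := rfl

theorem gmat_one : gmat (1 : Gam) = 1 := rfl

theorem quad_gmat (g : Gam) (v : J8 → ZMod 2) :
    quadFormPlus 4 (ZMod 2) (gmat g *ᵥ v) = quadFormPlus 4 (ZMod 2) v := g.1.2 v v

theorem InvP.conj {g : Gam} (h : Gam) (hg : InvP g) : InvP (h * g * h⁻¹) := by
  have hinv : ∀ v, gmat h⁻¹ *ᵥ (gmat h *ᵥ v) = v := fun v => by
    rw [mulVec_mulVec, ← gmat_mul, inv_mul_cancel, gmat_one, one_mulVec]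
  have hinv' : ∀ v, gmat h *ᵥ (gmat h⁻¹ *ᵥ v) = v := fun v => by
    rw [mulVec_mulVec, ← gmat_mul, mul_inv_cancel, gmat_one, one_mulVec]
  have hact : ∀ v, gmat (h * g * h⁻¹) *ᵥ v = gmat h *ᵥ (gmat g *ᵥ (gmat h⁻¹ *ᵥ v)) := fun v => by
    rw [mulVec_mulVec, mulVec_mulVec, gmat_mul, gmat_mul]
  rcases hg with hg | hg
  · left
    intro v
    have e := hg (gmat h⁻¹ *ᵥ v)
    rw [← quad_gmat h, mulVec_add, hinv'] at e
    rw [hact]
    exact e
  · right
    refine hg.trans (Finset.card_le_card_of_injOn (fun v => gmat h *ᵥ v) ?_ ?_)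
    · intro v hv
      simp only [Finset.coe_filter, Finset.mem_univ, true_and, Set.mem_setOf_eq] at hv ⊢
      rw [hact, hinv, hv]
    · intro a _ b _ e
      exact (hinv a).symm.trans ((congrArg (fun v => gmat h⁻¹ *ᵥ v) e).trans (hinv b))

end Cfsg.Agent.Omega8Rec.Closed
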